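import Groth.Prelude.Def_SpSeq

/-!
# Pages of a spectral sequence at a fixed position
-/

set_option autoImplicit false
set_option linter.style.haveILetI false

universe v u

open CategoryTheory CategoryTheory.Limits

namespace Groth.Agent.H16Derived.SpFil

variable {C : Type u} [Category.{v} C] [Abelian C] {r₀ : ℤ}

lemma isZero_page_succ (E : CohomologicalSpectralSequence C r₀) (r : ℤ) (hr : r₀ ≤ r) (pq : ℤ × ℤ)
    (h : IsZero ((E.page r hr).X pq)) : IsZero ((E.page (r + 1) (by omega)).X pq) :=
  (((HomologicalComplex.exactAt_iff_isZero_homology _ _).1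
    ((HomologicalComplex.exactAt_iff _ _).2 (ShortComplex.exact_of_isZero_X₂ _ h)))).of_iso (E.iso r (r + 1) pq rfl hr).symm

lemma isZero_page_of_le (E : CohomologicalSpectralSequence C r₀) (r : ℤ) (hr : r₀ ≤ r) (pq : ℤ × ℤ)
    (h : IsZero ((E.page r hr).X pq)) : ∀ (k : ℤ) (hk : r ≤ k), IsZero ((E.page k (hr.trans hk)).X pq) := by
  intro k hk
  induction k, hk using Int.le_induction with
  | base => exact h
  | succ n hn ih => exact isZero_page_succ E n (hr.trans hn) pq ih

lemma isZero_page_of_stationary (E : CohomologicalSpectralSequence C r₀) (pq : ℤ × ℤ) (s : ℤ)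
    (hs : SpSeq.StationaryAt E pq s) :
    ∀ (k : ℤ) (hk : s ≤ k), IsZero ((E.page k (hs.1.trans hk)).X pq) → IsZero ((E.page s hs.1).X pq) := by
  intro k hk
  induction k, hk using Int.le_induction with
  | base => exact id
  | succ n hn ih =>
    intro h
    apply ih
    have hz : IsZero ((E.page n (hs.1.trans hn)).homology pq) := h.of_iso (E.iso n (n + 1) pq rfl (hs.1.trans hn))
    have he := (HomologicalComplex.exactAt_iff' (E.page n (hs.1.trans hn)) (pq - (n, 1 - n)) pq (pq + (n, 1 - n))
      ((ComplexShape.up' _).prev_eq' (sub_add_cancel _ _)) ((ComplexShape.up' _).next_eq' rfl)).1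
        ((HomologicalComplex.exactAt_iff_isZero_homology _ _).2 hz)
    exact he.isZero_X₂ (hs.2 n (hs.1.trans hn) hn).1 (hs.2 n (hs.1.trans hn) hn).2

end Groth.Agent.H16Derived.SpFil
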