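import Groth.Agent.H16Derived.SpFil.Strict
import Mathlib.Algebra.Homology.Refinements
import Mathlib.Order.Interval.Finset.Defs
import Mathlib.Data.Int.Interval
import Mathlib.Algebra.Homology.HomologicalComplexLimits

/-!
# Convergence for finite filtrations
-/

set_option autoImplicit false
set_option linter.style.haveILetI false

universe v u

open CategoryTheory CategoryTheory.Limits

namespace Groth.Agent.H16Derived.SpFil

variable {A : Type u} [Category.{v} A] [Abelian A]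

lemma arrow_eq_zero_of_eq_bot {X : A} {S : Subobject X} (h : S = ⊥) : S.arrow = 0 := by
  subst h
  exact Subobject.bot_arrow

lemma isZero_subquot {X : A} (Z B : Subobject X) (h : B ≤ Z) (h' : Z ≤ B) : IsZero (SpSeq.subquot Z B h) := by
  haveI : IsIso (B.ofLE Z h) := ⟨Z.ofLE B h', by ext; simp, by ext; simp⟩
  exact isZero_cokernel_of_epi _

lemma pullback_bot {X Y : A} (f : X ⟶ Y) : (Subobject.pullback f).obj ⊥ = kernelSubobject f := by
  refine le_antisymm (le_of_refinements _ _ fun T z hz => ⟨T, 𝟙 T, inferInstance, ?_⟩)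
    (SpSeq.FilCx.kernelSubobject_le_pullback f ⊥)
  rw [Category.id_comp, kernelSubobject_factors_iff]
  exact (Subobject.bot_factors_iff_zero _).1 ((factors_pullback_iff _ _ _).1 hz)

variable (K : SpSeq.FilCx A) (hK : ∀ n : ℤ, (K.XFil n).IsFinite)

include hK

lemma exists_top (n : ℤ) : ∃ a : ℤ, ∀ p, p ≤ a → K.filX p n = ⊤ := by
  obtain ⟨a, ha⟩ := (hK n).1
  exact ⟨a, fun p hp => top_le_iff.1 (ha.symm.trans_le (K.filX_anti n hp))⟩

lemma exists_bot (n : ℤ) : ∃ b : ℤ, ∀ p, b ≤ p → K.filX p n = ⊥ := by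
  obtain ⟨b, hb⟩ := (hK n).2
  exact ⟨b, fun p hp => le_bot_iff.1 ((K.filX_anti n hp).trans_eq hb)⟩

lemma isBounded_zero : K.IsBounded 0 := by
  intro n
  obtain ⟨a, ha⟩ := exists_top K hK n
  obtain ⟨b, hb⟩ := exists_bot K hK n
  refine (Set.finite_Icc a b).subset fun p hp => ?_
  by_contra hpab
  apply hp
  refine isZero_subquot _ _ _ ?_
  by_cases h : p + 1 ≤ a
  · rw [SpSeq.FilCx.BSub, ha _ h, sup_top_eq]
    exact le_top
  · have : b ≤ p := by
      simp only [Set.mem_Icc, not_and_or, not_le] at hpab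
      omega
    rw [SpSeq.FilCx.ZSub, hb p this, hb (p + 1) (by omega)]
    simp

lemma hfil_finite (n : ℤ) : (K.HFil n).IsFinite := by
  obtain ⟨a, ha⟩ := exists_top K hK n
  obtain ⟨b, hb⟩ := exists_bot K hK n
  have hm : ∀ p j, Mono ((K.fil p).arrow.f j) := fun p j => inferInstance
  refine ⟨⟨a, ?_⟩, ⟨b, ?_⟩⟩
  · let φ := (K.fil a).arrow
    haveI : IsIso (φ.f n) := (Subobject.isIso_iff_mk_eq_top _).2 (ha a le_rfl)
    haveI : Epi (HomologicalComplex.homologyMap φ n) := by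
      rw [HomologicalComplex.epi_homologyMap_iff_up_to_refinements φ (n - 1) n (n + 1)
        ((ComplexShape.up ℤ).prev_eq' (show n - 1 + 1 = n by omega)) ((ComplexShape.up ℤ).next_eq' rfl)]
      intro T y hy
      refine ⟨T, 𝟙 T, inferInstance, y ≫ inv (φ.f n), ?_, 0, by simp⟩
      haveI := hm a (n + 1)
      rw [← cancel_mono (φ.f (n + 1)), zero_comp, Category.assoc, Category.assoc, ← φ.comm, IsIso.inv_hom_id_assoc]
      exact hy
    show imageSubobject (HomologicalComplex.homologyMap φ n) = ⊤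
    rw [← top_le_iff]
    refine le_of_refinements _ _ fun T z _ => ?_
    obtain ⟨T', π, hπ, w, hw⟩ := surjective_up_to_refinements_of_epi (HomologicalComplex.homologyMap φ n) z
    exact ⟨T', π, hπ, (factors_image_iff _ _).2 ⟨T', 𝟙 _, inferInstance, w, by rw [Category.id_comp]; exact hw⟩⟩
  · have h0 : (K.fil b).arrow.f n = 0 := by
      rw [← Subobject.mk_eq_bot_iff_zero]
      exact hb b le_rfl
    have hz : IsZero ((K.fil b : CochainComplex A ℤ).X n) := by
      haveI := hm b n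
      exact IsZero.of_mono_eq_zero _ h0
    have hH : IsZero ((K.fil b : CochainComplex A ℤ).homology n) :=
      (HomologicalComplex.exactAt_iff_isZero_homology _ _).1 (HomologicalComplex.exactAt_iff' _ (n - 1) n (n + 1)
        ((ComplexShape.up ℤ).prev_eq' (show n - 1 + 1 = n by omega)) ((ComplexShape.up ℤ).next_eq' rfl) |>.2
          (ShortComplex.exact_of_isZero_X₂ _ hz))
    show imageSubobject (HomologicalComplex.homologyMap (K.fil b).arrow n) = ⊥
    rw [hH.eq_of_src (HomologicalComplex.homologyMap (K.fil b).arrow n) 0, imageSubobject_zero]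

lemma zsub_stable (p n : ℤ) : ∃ r₀ : ℕ, ∀ r, r₀ ≤ r → K.ZSub r p n = K.ZTop p n := by
  obtain ⟨b, hb⟩ := exists_bot K hK (n + 1)
  refine ⟨(b - p).toNat, fun r hr => ?_⟩
  rw [SpSeq.FilCx.ZSub, SpSeq.FilCx.ZTop, hb (p + r) (by omega), pullback_bot]

lemma bsub_stable (p n : ℤ) : ∃ r₀ : ℕ, ∀ r, r₀ ≤ r → K.BSub r p n = K.BBot p n := by
  obtain ⟨a, ha⟩ := exists_top K hK (n - 1)
  refine ⟨(p - a + 1).toNat, fun r hr => ?_⟩
  have key : ∀ S : Subobject (K.obj.X (n - 1)), S = ⊤ →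
      imageSubobject (S.arrow ≫ K.obj.d (n - 1) n) = imageSubobject (K.obj.d (n - 1) n) := by
    rintro S rfl
    exact imageSubobject_iso_comp _ _
  rw [SpSeq.FilCx.BSub, SpSeq.FilCx.BBot, key _ (ha (p - r + 1) (by omega))]

theorem converges : K.Converges := by
  refine ⟨fun p n => ?_, ⟨fun p n => ⟨⟨?_, ?_⟩, ⟨?_, ?_⟩⟩, fun n => ?_⟩, fun n => ?_⟩
  · obtain ⟨r₀, h⟩ := zsub_stable K hK p n
    exact ⟨r₀, fun r hr => (h r hr).trans (h r₀ le_rfl).symm⟩
  · rintro S ⟨r, rfl⟩
    exact sup_le_sup_right (inf_le_inf_left _ (SpSeq.FilCx.kernelSubobject_le_pullback _ _)) _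
  · intro S hS
    obtain ⟨r₀, h⟩ := zsub_stable K hK p n
    exact h r₀ le_rfl ▸ hS ⟨r₀, rfl⟩
  · rintro S ⟨r, rfl⟩
    exact sup_le_sup_right (inf_le_inf_left _ (imageSubobject_comp_le _ _)) _
  · intro S hS
    obtain ⟨r₀, h⟩ := bsub_stable K hK p n
    exact h r₀ le_rfl ▸ hS ⟨r₀, rfl⟩
  · obtain ⟨⟨a, ha⟩, b, hb⟩ := hfil_finite K hK n
    exact ⟨⟨fun _ _ => bot_le, fun S hS => hb ▸ hS ⟨b, rfl⟩⟩, ⟨fun _ _ => le_top, fun S hS => ha ▸ hS ⟨a, rfl⟩⟩⟩
  · obtain ⟨-, b, hb⟩ := hfil_finite K hK n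
    intro T f hf
    let F := K.HFil n
    have hbot : ∀ q, b ≤ q → IsIso (cokernel.π (F.fil q).arrow) := fun q hq => by
      have : (F.fil q).arrow = 0 := arrow_eq_zero_of_eq_bot (le_bot_iff.1 ((F.anti hq).trans_eq hb))
      haveI : IsIso (cokernel.π (F.fil q).arrow) := by
        refine ⟨cokernel.desc _ (𝟙 _) (by simp [this]), by simp, ?_⟩
        apply coequalizer.hom_ext
        simp
      assumption
    haveI := hbot b le_rfl
    refine ⟨f b ≫ inv (cokernel.π (F.fil b).arrow), fun p => ?_⟩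
    haveI := hbot (max p b) (le_max_right _ _)
    have h₁ : ∀ {p q : ℤ} (h : p ≤ q), cokernel.π (F.fil q).arrow ≫ F.quotMap h = cokernel.π (F.fil p).arrow :=
      fun h => cokernel.π_desc _ _ _
    have hg : f b ≫ inv (cokernel.π (F.fil b).arrow) = f (max p b) ≫ inv (cokernel.π (F.fil (max p b)).arrow) := by
      rw [IsIso.comp_inv_eq, Category.assoc, ← h₁ (le_max_right p b), IsIso.inv_hom_id_assoc, hf b _ (le_max_right p b)]
    rw [hg, Category.assoc, ← h₁ (le_max_left p b), IsIso.inv_hom_id_assoc, hf p _ (le_max_left p b)]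

end Groth.Agent.H16Derived.SpFil
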