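import Groth.Agent.H16Derived.SpFil.Converge

/-!
# Convergence under homological conditions on the filtration
-/

set_option autoImplicit false
set_option linter.style.haveILetI false

universe v u

open CategoryTheory CategoryTheory.Limits

namespace Groth.Agent.H16Derived.SpFil.ConvergeH

open Groth.Agent.H16Derived.SpFil

variable {A : Type u} [Category.{v} A] [Abelian A] (K : SpSeq.FilCx A)

lemma mem_filX {p n : ℤ} {T : A} (z : T ⟶ K.obj.X n) :
    (K.filX p n).Factors z ↔ ∃ w : T ⟶ (K.fil p : CochainComplex A ℤ).X n, w ≫ (K.fil p).arrow.f n = z :=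
  Subobject.mk_factors_iff _ _

lemma cycle_lift {p n k : ℤ} {T : A} (w : T ⟶ (K.fil p : CochainComplex A ℤ).X n)
    (h : (w ≫ (K.fil p).arrow.f n) ≫ K.obj.d n k = 0) : w ≫ (K.fil p : CochainComplex A ℤ).d n k = 0 := by
  haveI : Mono ((K.fil p).arrow.f k) := inferInstance
  rw [← cancel_mono ((K.fil p).arrow.f k), zero_comp, Category.assoc, ← (K.fil p).arrow.comm, ← Category.assoc]
  exact h

/-- A cycle of a filtration step with vanishing cohomology is a boundary there. -/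
lemma bdry_of_zero {p m n k : ℤ} (hm : m + 1 = n) (hk : n + 1 = k)
    (h : IsZero ((K.fil p : CochainComplex A ℤ).homology n)) {T : A} (z : T ⟶ K.obj.X n)
    (hz : (K.filX p n).Factors z) (hc : z ≫ K.obj.d n k = 0) :
    ∃ (T' : A) (π : T' ⟶ T) (_ : Epi π) (v : T' ⟶ K.obj.X m),
      (K.filX p m).Factors v ∧ π ≫ z = v ≫ K.obj.d m n := by
  obtain ⟨w, rfl⟩ := (mem_filX K z).1 hz
  have hex := ((K.fil p : CochainComplex A ℤ).exactAt_iff_exact_up_to_refinements m n k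
    ((ComplexShape.up ℤ).prev_eq' hm) ((ComplexShape.up ℤ).next_eq' hk)).1
    ((HomologicalComplex.exactAt_iff_isZero_homology _ _).2 h)
  obtain ⟨T', π, hπ, x, hx⟩ := hex w (cycle_lift K w hc)
  refine ⟨T', π, hπ, x ≫ (K.fil p).arrow.f m, (mem_filX K _).2 ⟨x, rfl⟩, ?_⟩
  rw [reassoc_of% hx, Category.assoc, (K.fil p).arrow.comm]

/-- An element of a step which is a boundary, when `H(F^p) → H(K)` is injective. -/
lemma bdry_of_mono {p m n : ℤ} (hm : m + 1 = n)
    (h : Mono (HomologicalComplex.homologyMap (K.fil p).arrow n)) {T : A} (z : T ⟶ K.obj.X n)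
    (hz : (K.filX p n).Factors z) (y : T ⟶ K.obj.X m) (hy : z = y ≫ K.obj.d m n) :
    ∃ (T' : A) (π : T' ⟶ T) (_ : Epi π) (v : T' ⟶ K.obj.X m),
      (K.filX p m).Factors v ∧ π ≫ z = v ≫ K.obj.d m n := by
  obtain ⟨w, rfl⟩ := (mem_filX K z).1 hz
  have hmono := (HomologicalComplex.mono_homologyMap_iff_up_to_refinements (K.fil p).arrow m n (n + 1)
    ((ComplexShape.up ℤ).prev_eq' hm) ((ComplexShape.up ℤ).next_eq' rfl)).1 h
  have hc : (w ≫ (K.fil p).arrow.f n) ≫ K.obj.d n (n + 1) = 0 := by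
    rw [hy, Category.assoc, HomologicalComplex.d_comp_d, comp_zero]
  obtain ⟨T', π, hπ, x, hx⟩ := hmono w (cycle_lift K w hc) y hy
  refine ⟨T', π, hπ, x ≫ (K.fil p).arrow.f m, (mem_filX K _).2 ⟨x, rfl⟩, ?_⟩
  rw [reassoc_of% hx, Category.assoc, (K.fil p).arrow.comm]

/-- Cycles come from a step with surjective `H(F^p) → H(K)`. -/
lemma cycle_of_epi {p m n k : ℤ} (hm : m + 1 = n) (hk : n + 1 = k)
    (h : Epi (HomologicalComplex.homologyMap (K.fil p).arrow n)) {T : A} (z : T ⟶ K.obj.X n)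
    (hc : z ≫ K.obj.d n k = 0) :
    ∃ (T' : A) (π : T' ⟶ T) (_ : Epi π) (w : T' ⟶ K.obj.X n) (y : T' ⟶ K.obj.X m),
      (K.filX p n).Factors w ∧ w ≫ K.obj.d n k = 0 ∧ π ≫ z = w + y ≫ K.obj.d m n := by
  obtain ⟨T', π, hπ, x, hx, y, hy⟩ := (HomologicalComplex.epi_homologyMap_iff_up_to_refinements (K.fil p).arrow
    m n k ((ComplexShape.up ℤ).prev_eq' hm) ((ComplexShape.up ℤ).next_eq' hk)).1 h z hc
  refine ⟨T', π, hπ, x ≫ (K.fil p).arrow.f n, y, (mem_filX K _).2 ⟨x, rfl⟩, ?_, hy⟩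
  rw [Category.assoc, (K.fil p).arrow.comm, reassoc_of% hx, zero_comp]

lemma factors_anti {p q n : ℤ} (h : p ≤ q) {T : A} {z : T ⟶ K.obj.X n} (hz : (K.filX q n).Factors z) :
    (K.filX p n).Factors z :=
  Subobject.factors_of_le z (K.filX_anti n h) hz

lemma factors_sub {X T : A} {S : Subobject X} {a b : T ⟶ X} (ha : S.Factors a) (hb : S.Factors b) :
    S.Factors (a - b) :=
  (Subobject.factors_iff _ _).2 ⟨S.factorThru a ha - S.factorThru b hb, by
    show (S.factorThru a ha - S.factorThru b hb) ≫ S.arrow = a - b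
    rw [Preadditive.sub_comp, Subobject.factorThru_arrow, Subobject.factorThru_arrow]⟩

lemma factors_add {X T : A} {S R : Subobject X} {a b : T ⟶ X} (ha : S.Factors a) (hb : R.Factors b) :
    (S ⊔ R).Factors (a + b) :=
  (Subobject.factors_iff _ _).2
    ⟨(S ⊔ R).factorThru a (Subobject.factors_of_le a le_sup_left ha) +
      (S ⊔ R).factorThru b (Subobject.factors_of_le b le_sup_right hb), by
      show (_ + _) ≫ (S ⊔ R).arrow = a + b
      rw [Preadditive.add_comp, Subobject.factorThru_arrow, Subobject.factorThru_arrow]⟩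

lemma factors_image {X Y T : A} (S : Subobject X) (f : X ⟶ Y) (v : T ⟶ X) (hv : S.Factors v) :
    (imageSubobject (S.arrow ≫ f)).Factors (v ≫ f) :=
  (factors_image_iff _ _).2 ⟨T, 𝟙 T, inferInstance, S.factorThru v hv, by simp⟩

lemma zsub_le_bsub_of_zero {p n : ℤ} (h₀ : IsZero ((K.fil p : CochainComplex A ℤ).homology n))
    (h₁ : IsZero ((K.fil (p + 1) : CochainComplex A ℤ).homology (n + 1))) :
    K.ZSub 1 p n ≤ K.BSub 1 p n := by
  refine sup_le (le_of_refinements _ _ fun T z hz => ?_) le_sup_right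
  obtain ⟨hzp, hzd⟩ := (Subobject.inf_factors _).1 hz
  rw [factors_pullback_iff] at hzd
  obtain ⟨T₁, π₁, hπ₁, y, hy, hyd⟩ := bdry_of_zero K rfl rfl h₁ (z ≫ K.obj.d n (n + 1)) hzd (by simp)
  have hx : (K.filX p n).Factors (π₁ ≫ z - y) :=
    factors_sub (Subobject.factors_of_factors_right _ hzp) (factors_anti K (by omega) hy)
  obtain ⟨T₂, π₂, hπ₂, v, hv, hvd⟩ := bdry_of_zero K (m := n - 1) (by omega) rfl h₀ (π₁ ≫ z - y) hx
    (by rw [Preadditive.sub_comp, Category.assoc, hyd, sub_self])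
  refine ⟨T₂, π₂ ≫ π₁, inferInstance, ?_⟩
  rw [show (π₂ ≫ π₁) ≫ z = π₂ ≫ (π₁ ≫ z - y) + π₂ ≫ y by rw [← Preadditive.comp_add, sub_add_cancel, Category.assoc]]
  refine factors_add ((Subobject.inf_factors _).2 ⟨Subobject.factors_of_factors_right _ hx, ?_⟩)
    (Subobject.factors_of_factors_right _ hy)
  rw [hvd]
  exact factors_image _ _ v (factors_anti K (le_of_eq (by omega)) hv)

lemma zsub_le_bsub_of_iso {p n : ℤ} (h₀ : Mono (HomologicalComplex.homologyMap (K.fil p).arrow n))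
    (h₁ : Mono (HomologicalComplex.homologyMap (K.fil (p + 1)).arrow (n + 1)))
    (h₂ : Epi (HomologicalComplex.homologyMap (K.fil (p + 1)).arrow n)) :
    K.ZSub 1 p n ≤ K.BSub 1 p n := by
  refine sup_le (le_of_refinements _ _ fun T z hz => ?_) le_sup_right
  obtain ⟨hzp, hzd⟩ := (Subobject.inf_factors _).1 hz
  rw [factors_pullback_iff] at hzd
  obtain ⟨T₁, π₁, hπ₁, y, hy, hyd⟩ := bdry_of_mono K rfl h₁ (z ≫ K.obj.d n (n + 1)) hzd z rfl
  obtain ⟨T₂, π₂, hπ₂, w, b, hw, hwc, hwb⟩ := cycle_of_epi K (m := n - 1) (by omega) rfl h₂ (π₁ ≫ z - y)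
    (by rw [Preadditive.sub_comp, Category.assoc, hyd, sub_self])
  have hyw : (K.filX (p + 1) n).Factors (π₂ ≫ y + w) :=
    sup_idem (K.filX (p + 1) n) ▸ factors_add (Subobject.factors_of_factors_right _ hy) hw
  have e : b ≫ K.obj.d (n - 1) n = π₂ ≫ π₁ ≫ z - (π₂ ≫ y + w) := by
    rw [Preadditive.comp_sub] at hwb
    rw [eq_sub_iff_add_eq, sub_eq_iff_eq_add.1 hwb]
    abel
  obtain ⟨T₃, π₃, hπ₃, v, hv, hvd⟩ := bdry_of_mono K (m := n - 1) (by omega) h₀
    (π₂ ≫ π₁ ≫ z - (π₂ ≫ y + w))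
    (factors_sub (Subobject.factors_of_factors_right _ (Subobject.factors_of_factors_right _ hzp))
      (factors_anti K (by omega) hyw)) b e.symm
  refine ⟨T₃, π₃ ≫ π₂ ≫ π₁, inferInstance, ?_⟩
  rw [show (π₃ ≫ π₂ ≫ π₁) ≫ z = π₃ ≫ (π₂ ≫ π₁ ≫ z - (π₂ ≫ y + w)) + π₃ ≫ (π₂ ≫ y + w) by
    rw [← Preadditive.comp_add, sub_add_cancel, Category.assoc, Category.assoc]]
  refine factors_add ((Subobject.inf_factors _).2 ⟨?_, ?_⟩) (Subobject.factors_of_factors_right _ hyw)
  · exact Subobject.factors_of_factors_right _ (factors_sub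
      (Subobject.factors_of_factors_right _ (Subobject.factors_of_factors_right _ hzp)) (factors_anti K (by omega) hyw))
  · rw [hvd]
    exact factors_image _ _ v (factors_anti K (le_of_eq (by omega)) hv)

lemma ztop_stable {p q n : ℤ} (hq : p + 1 ≤ q) (h : IsZero ((K.fil q : CochainComplex A ℤ).homology (n + 1))) :
    (K.filX p n ⊓ (Subobject.pullback (K.obj.d n (n + 1))).obj (K.filX q (n + 1))) ⊔ K.filX (p + 1) n =
      K.ZTop p n := by
  refine le_antisymm (sup_le (le_of_refinements _ _ fun T z hz => ?_) le_sup_right)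
    (sup_le_sup_right (inf_le_inf_left _ (SpSeq.FilCx.kernelSubobject_le_pullback _ _)) _)
  obtain ⟨hzp, hzd⟩ := (Subobject.inf_factors _).1 hz
  rw [factors_pullback_iff] at hzd
  obtain ⟨T₁, π₁, hπ₁, y, hy, hyd⟩ := bdry_of_zero K rfl rfl h (z ≫ K.obj.d n (n + 1)) hzd (by simp)
  refine ⟨T₁, π₁, hπ₁, ?_⟩
  rw [show π₁ ≫ z = (π₁ ≫ z - y) + y by rw [sub_add_cancel]]
  refine factors_add ((Subobject.inf_factors _).2 ⟨?_, ?_⟩) (factors_anti K hq hy)
  · exact factors_sub (Subobject.factors_of_factors_right _ hzp) (factors_anti K (by omega) hy)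
  · rw [kernelSubobject_factors_iff, Preadditive.sub_comp, Category.assoc, hyd, sub_self]

lemma bbot_stable {p q n : ℤ} (hq : q ≤ p) (h : Mono (HomologicalComplex.homologyMap (K.fil q).arrow n)) :
    (K.filX p n ⊓ imageSubobject ((K.filX q (n - 1)).arrow ≫ K.obj.d (n - 1) n)) ⊔ K.filX (p + 1) n =
      K.BBot p n := by
  refine le_antisymm (sup_le_sup_right (inf_le_inf_left _ (imageSubobject_comp_le _ _)) _)
    (sup_le_sup_right (le_inf inf_le_left (le_of_refinements _ _ fun T z hz => ?_)) _)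
  obtain ⟨hzp, hzi⟩ := (Subobject.inf_factors _).1 hz
  obtain ⟨T₁, π₁, hπ₁, y, hy⟩ := (factors_image_iff _ _).1 hzi
  obtain ⟨T₂, π₂, hπ₂, v, hv, hvd⟩ := bdry_of_mono K (m := n - 1) (by omega) h (π₁ ≫ z)
    (Subobject.factors_of_factors_right _ (factors_anti K hq hzp)) y hy
  refine ⟨T₂, π₂ ≫ π₁, inferInstance, ?_⟩
  rw [Category.assoc, hvd]
  exact factors_image _ _ v hv

variable (h0 : ∀ n : ℤ, ∃ p₀ : ℤ, ∀ p : ℤ, p₀ ≤ p → IsZero ((K.fil p : CochainComplex A ℤ).homology n))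
  (h1 : ∀ n : ℤ, ∃ p₁ : ℤ, ∀ p : ℤ, p ≤ p₁ → IsIso (HomologicalComplex.homologyMap (K.fil p).arrow n))

include h0 h1

lemma isBounded_one : K.IsBounded 1 := by
  intro n
  obtain ⟨b, hb⟩ := h0 n
  obtain ⟨b', hb'⟩ := h0 (n + 1)
  obtain ⟨a, ha⟩ := h1 n
  obtain ⟨a', ha'⟩ := h1 (n + 1)
  refine (Set.finite_Icc (min a a') (max b b')).subset fun p hp => ?_
  by_contra hpab
  apply hp
  refine isZero_subquot _ _ _ ?_
  simp only [Set.mem_Icc, not_and_or, not_le] at hpab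
  rcases hpab with h | h
  · haveI := ha p (by omega)
    haveI := ha (p + 1) (by omega)
    haveI := ha' (p + 1) (by omega)
    exact zsub_le_bsub_of_iso K inferInstance inferInstance inferInstance
  · exact zsub_le_bsub_of_zero K (hb p (by omega)) (hb' (p + 1) (by omega))

lemma hfil_finite (n : ℤ) : (K.HFil n).IsFinite := by
  obtain ⟨a, ha⟩ := h1 n
  obtain ⟨b, hb⟩ := h0 n
  haveI := ha a le_rfl
  refine ⟨⟨a, ?_⟩, ⟨b, ?_⟩⟩
  · show imageSubobject (HomologicalComplex.homologyMap (K.fil a).arrow n) = ⊤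
    rw [← top_le_iff]
    exact le_of_refinements _ _ fun T z _ => ⟨T, 𝟙 T, inferInstance, (factors_image_iff _ _).2
      ⟨T, 𝟙 T, inferInstance, z ≫ inv (HomologicalComplex.homologyMap (K.fil a).arrow n), by simp⟩⟩
  · show imageSubobject (HomologicalComplex.homologyMap (K.fil b).arrow n) = ⊥
    rw [(hb b le_rfl).eq_of_src (HomologicalComplex.homologyMap (K.fil b).arrow n) 0, imageSubobject_zero]

theorem converges : K.Converges := by
  have hZ : ∀ p n, ∃ r₀ : ℕ, ∀ r, r₀ ≤ r → K.ZSub r p n = K.ZTop p n := fun p n => by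
    obtain ⟨b, hb⟩ := h0 (n + 1)
    exact ⟨(b - p).toNat + 1, fun r hr => ztop_stable K (by omega) (hb _ (by omega))⟩
  have hB : ∀ p n, ∃ r₀ : ℕ, ∀ r, r₀ ≤ r → K.BSub r p n = K.BBot p n := fun p n => by
    obtain ⟨a, ha⟩ := h1 n
    refine ⟨(p - a + 1).toNat + 1, fun r hr => ?_⟩
    haveI := ha (p - r + 1) (by omega)
    exact bbot_stable K (q := p - r + 1) (by omega) inferInstance
  refine ⟨fun p n => ?_, ⟨fun p n => ⟨⟨?_, ?_⟩, ⟨?_, ?_⟩⟩, fun n => ?_⟩, fun n => ?_⟩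
  · obtain ⟨r₀, h⟩ := hZ p n
    exact ⟨r₀, fun r hr => (h r hr).trans (h r₀ le_rfl).symm⟩
  · rintro S ⟨r, rfl⟩
    exact sup_le_sup_right (inf_le_inf_left _ (SpSeq.FilCx.kernelSubobject_le_pullback _ _)) _
  · intro S hS
    obtain ⟨r₀, h⟩ := hZ p n
    exact h r₀ le_rfl ▸ hS ⟨r₀, rfl⟩
  · rintro S ⟨r, rfl⟩
    exact sup_le_sup_right (inf_le_inf_left _ (imageSubobject_comp_le _ _)) _
  · intro S hS
    obtain ⟨r₀, h⟩ := hB p n
    exact h r₀ le_rfl ▸ hS ⟨r₀, rfl⟩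
  · obtain ⟨⟨a, ha⟩, b, hb⟩ := hfil_finite K h0 h1 n
    exact ⟨⟨fun _ _ => bot_le, fun S hS => hb ▸ hS ⟨b, rfl⟩⟩, ⟨fun _ _ => le_top, fun S hS => ha ▸ hS ⟨a, rfl⟩⟩⟩
  · obtain ⟨-, b, hb⟩ := hfil_finite K h0 h1 n
    intro T f hf
    let F := K.HFil n
    have hbot : ∀ q, b ≤ q → IsIso (cokernel.π (F.fil q).arrow) := fun q hq => by
      have : (F.fil q).arrow = 0 := arrow_eq_zero_of_eq_bot (le_bot_iff.1 ((F.anti hq).trans_eq hb))
      haveI : IsIso (cokernel.π (F.fil q).arrow) := by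
        refine ⟨cokernel.desc _ (𝟙 _) (by simp [this]), by simp, ?_⟩
        apply coequalizer.hom_ext
        simp
      assumption
    haveI := hbot b le_rfl
    refine ⟨f b ≫ inv (cokernel.π (F.fil b).arrow), fun p => ?_⟩
    haveI := hbot (max p b) (le_max_right _ _)
    have h₁ : ∀ {p q : ℤ} (h : p ≤ q), cokernel.π (F.fil q).arrow ≫ F.quotMap h = cokernel.π (F.fil p).arrow :=
      fun h => cokernel.π_desc _ _ _
    have hg : f b ≫ inv (cokernel.π (F.fil b).arrow) = f (max p b) ≫ inv (cokernel.π (F.fil (max p b)).arrow) := by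
      rw [IsIso.comp_inv_eq, Category.assoc, ← h₁ (le_max_right p b), IsIso.inv_hom_id_assoc, hf b _ (le_max_right p b)]
    rw [hg, Category.assoc, ← h₁ (le_max_left p b), IsIso.inv_hom_id_assoc, hf p _ (le_max_left p b)]

end Groth.Agent.H16Derived.SpFil.ConvergeH
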