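import Groth.Agent.H16Derived.SpFil.Page
import Groth.Prelude.Def_W4c1gvcharpAbut

/-!
# One total degree of a spectral sequence with an abutment
-/

set_option autoImplicit false
set_option linter.style.haveILetI false

universe v u

open CategoryTheory CategoryTheory.Limits

namespace Groth.Agent.H16Derived.SpFil

variable {C : Type u} [Category.{v} C] [Abelian C] {r₀ : ℤ}

lemma sc_f_eq_zero (E : CohomologicalSpectralSequence C r₀) (r : ℤ) (hr : r₀ ≤ r) (pq : ℤ × ℤ)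
    (h : (E.page r hr).d (pq - (r, 1 - r)) pq = 0) : ((E.page r hr).sc pq).f = 0 := by
  change (E.page r hr).d _ pq = 0
  rw [(ComplexShape.up' ((r, 1 - r) : ℤ × ℤ)).prev_eq' (sub_add_cancel pq ((r, 1 - r) : ℤ × ℤ))]
  exact h

lemma sc_g_eq_zero (E : CohomologicalSpectralSequence C r₀) (r : ℤ) (hr : r₀ ≤ r) (pq : ℤ × ℤ)
    (h : (E.page r hr).d pq (pq + (r, 1 - r)) = 0) : ((E.page r hr).sc pq).g = 0 := by
  change (E.page r hr).d pq _ = 0
  rw [(ComplexShape.up' ((r, 1 - r) : ℤ × ℤ)).next_eq' rfl]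
  exact h

lemma d_eq_zero_of_not_rel (E : CohomologicalSpectralSequence C r₀) (r : ℤ) (hr : r₀ ≤ r)
    (pq pq' : ℤ × ℤ) (h : (E.page r hr).d pq (pq + (r, 1 - r)) = 0) :
    (E.page r hr).d pq pq' = 0 := by
  by_cases hp : pq + (r, 1 - r) = pq'
  · subst hp; exact h
  · exact (E.page r hr).shape _ _ hp

/-- Vanishing at a position is independent of the page, from a stationary page on. -/
lemma isZero_of_stationary_of_page (E : CohomologicalSpectralSequence C r₀) (pq : ℤ × ℤ) (s : ℤ)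
    (hs : SpSeq.StationaryAt E pq s) (r : ℤ) (hr : r₀ ≤ r) (h : IsZero ((E.page r hr).X pq)) :
    IsZero ((E.page s hs.1).X pq) := by
  rcases le_total r s with hrs | hsr
  · exact isZero_page_of_le E r hr pq h s hrs
  · exact isZero_page_of_stationary E pq s hs r hsr h

/-- The objects at a position on two stationary pages. -/
lemma nonempty_iso_of_stationary (E : CohomologicalSpectralSequence C r₀) (pq : ℤ × ℤ) (s r : ℤ)
    (hs : SpSeq.StationaryAt E pq s) (hr : SpSeq.StationaryAt E pq r) :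
    Nonempty ((E.page s hs.1).X pq ≅ (E.page r hr.1).X pq) :=
  ⟨(SpSeqMor.statXIso E pq s hs (max s r - s).toNat).symm ≪≫
    E.pageXIsoOfEq pq _ (r + ((max s r - r).toNat : ℤ)) (by omega) (SpSeqMor.page_le hs.1 _) ≪≫
    SpSeqMor.statXIso E pq r hr (max s r - r).toNat⟩

lemma isZero_gr (E : CohomologicalSpectralSequence C r₀) {H : ℤ → C} (a : SpSeq.Abutment E H)
    (n p : ℤ) (r : ℤ) (hr : r₀ ≤ r) (h : IsZero ((E.page r hr).X (p, n - p))) :
    IsZero ((a.filObj n).gr p) := by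
  obtain ⟨q, rfl⟩ : ∃ q, n = p + q := ⟨n - p, by omega⟩
  rw [show p + q - p = q by omega] at h
  exact (isZero_of_stationary_of_page E _ _ (a.stat (p, q)) r hr h).of_iso (a.β (p, q)).symm

lemma nonempty_iso_gr (E : CohomologicalSpectralSequence C r₀) {H : ℤ → C} (a : SpSeq.Abutment E H)
    (n p q : ℤ) (h : p + q = n) (r : ℤ) (hst : SpSeq.StationaryAt E (p, q) r) :
    Nonempty ((a.filObj n).gr p ≅ (E.page r hst.1).X (p, q)) := by
  subst h
  obtain ⟨e⟩ := nonempty_iso_of_stationary E (p, q) _ r (a.stat (p, q)) hst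
  exact ⟨(a.β (p, q)).symm ≪≫ e⟩

section FilObj

variable (K : SpSeq.FilObj C)

lemma fil_le_of_isZero_gr (p : ℤ) (h : IsZero (K.gr p)) : K.fil p ≤ K.fil (p + 1) := by
  haveI : Epi (K.stepLE (Int.le_add_one (le_refl p))) :=
    Preadditive.epi_of_isZero_cokernel _ h
  haveI : IsIso (K.stepLE (Int.le_add_one (le_refl p))) := isIso_of_mono_of_epi _
  exact Subobject.le_of_comm (inv (K.stepLE (Int.le_add_one (le_refl p))))
    (by simp [SpSeq.FilObj.stepLE])

lemma fil_eq_of_isZero_gr_range {a b : ℤ} (hab : a ≤ b)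
    (h : ∀ p, a ≤ p → p < b → IsZero (K.gr p)) : K.fil a = K.fil b := by
  induction b, hab using Int.le_induction with
  | base => rfl
  | succ m hm ih =>
    rw [ih fun p hp hp' => h p hp (by omega)]
    exact le_antisymm (fil_le_of_isZero_gr K m (h m hm (by omega))) (K.anti (by omega))

lemma eq_bot_of_isDiscrete (hd : K.IsDiscrete) (c : ℤ) (h : ∀ p, c ≤ p → IsZero (K.gr p)) :
    K.fil c = ⊥ := by
  obtain ⟨b, hb⟩ := hd
  rw [fil_eq_of_isZero_gr_range K (le_max_left c b) fun p hp _ => h p hp]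
  exact le_bot_iff.mp ((K.anti (le_max_right c b)).trans_eq hb)

lemma eq_top_of_isExhaustive (he : K.IsExhaustive) (c : ℤ) (h : ∀ p, p < c → IsZero (K.gr p)) :
    K.fil c = ⊤ := by
  refine top_le_iff.mp (he.2 ?_)
  rintro _ ⟨p, rfl⟩
  rcases le_total p c with hp | hp
  · exact (fil_eq_of_isZero_gr_range K hp fun q _ hq => h q hq).le
  · exact K.anti hp

lemma eq_top_of_isCodiscrete (he : K.IsCodiscrete) (c : ℤ) (h : ∀ p, p < c → IsZero (K.gr p)) :
    K.fil c = ⊤ := by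
  obtain ⟨a, ha⟩ := he
  rcases le_total c a with hc | hc
  · exact top_le_iff.mp (ha.symm.trans_le (K.anti hc))
  · rw [← fil_eq_of_isZero_gr_range K hc fun q _ hq => h q hq, ha]

lemma isIso_cokernelπ_of_bot (p : ℤ) (h : K.fil (p + 1) = ⊥) :
    IsIso (cokernel.π (K.stepLE (Int.le_add_one (le_refl p)))) := by
  have hz : IsZero (K.step (p + 1)) := by
    rw [SpSeq.FilObj.step, h]
    exact (isZero_zero C).of_iso Subobject.botCoeIsoZero
  exact cokernel.π_of_zero (hz.eq_of_src _ _)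

lemma nonempty_iso_gr_of_top_bot (p : ℤ) (ht : K.fil p = ⊤) (hb : K.fil (p + 1) = ⊥) :
    Nonempty (K.obj ≅ K.gr p) := by
  haveI := isIso_cokernelπ_of_bot K p hb
  haveI : IsIso (K.fil p).arrow := (Subobject.isIso_arrow_iff_eq_top _).mpr ht
  exact ⟨(asIso (K.fil p).arrow).symm ≪≫
    @asIso _ _ _ _ (cokernel.π (K.stepLE (Int.le_add_one (le_refl p)))) (isIso_cokernelπ_of_bot K p hb)⟩

end FilObj

theorem nonempty_iso_page_of_single (E : CohomologicalSpectralSequence C r₀) {H : ℤ → C}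
    (a : SpSeq.Abutment E H) (r : ℤ) (hr : r₀ ≤ r) (q : ℤ → ℤ)
    (hdeg : ∀ m q' : ℤ, q' ≠ q m → IsZero ((E.page r hr).X (m - q', q')))
    (n : ℤ) (hdisc : (a.filObj n).IsDiscrete) (hexh : a.IsExhaustive n)
    (hst : SpSeq.StationaryAt E (n - q n, q n) r) :
    Nonempty (H n ≅ (E.page r hr).X (n - q n, q n)) := by
  have hz : ∀ p, p ≠ n - q n → IsZero ((a.filObj n).gr p) := fun p hp =>
    isZero_gr E a n p r hr (by
      have := hdeg n (n - p) (by omega)
      rwa [show n - (n - p) = p by omega] at this)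
  obtain ⟨e₁⟩ := nonempty_iso_gr_of_top_bot (a.filObj n) (n - q n)
    (eq_top_of_isExhaustive _ hexh _ fun p hp => hz p (by omega))
    (eq_bot_of_isDiscrete _ hdisc _ fun p hp => hz p (by omega))
  obtain ⟨e₂⟩ := nonempty_iso_gr E a n (n - q n) (q n) (by omega) r hst
  exact ⟨e₁ ≪≫ e₂⟩

lemma homologyMap_eq_zero_of_τ₂ {S S' : ShortComplex C} (φ : S ⟶ S') (h : φ.τ₂ = 0) :
    ShortComplex.homologyMap φ = 0 := by
  have hc : ShortComplex.cyclesMap φ = 0 := by
    rw [← cancel_mono S'.iCycles, ShortComplex.cyclesMap_i, h, comp_zero, zero_comp]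
  rw [← cancel_epi S.homologyπ, ShortComplex.homologyπ_naturality, hc, zero_comp, comp_zero]

lemma mono_homologyMap_of_τ₂ {S S' : ShortComplex C} (φ : S ⟶ S') (hf : S.f = 0) (hf' : S'.f = 0)
    [Mono φ.τ₂] : Mono (ShortComplex.homologyMap φ) := by
  haveI := ShortComplex.isIso_pOpcycles S hf
  haveI := ShortComplex.isIso_pOpcycles S' hf'
  haveI : Mono (ShortComplex.opcyclesMap φ) := by
    have e : ShortComplex.opcyclesMap φ = inv S.pOpcycles ≫ φ.τ₂ ≫ S'.pOpcycles := by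
      rw [IsIso.eq_inv_comp, ShortComplex.p_opcyclesMap]
    rw [e]
    infer_instance
  haveI : Mono (ShortComplex.homologyMap φ ≫ S'.homologyι) := by
    rw [ShortComplex.homologyι_naturality]
    infer_instance
  exact mono_of_mono _ S'.homologyι

lemma hom_succ_eq {E E' : CohomologicalSpectralSequence C r₀} (φ : E ⟶ E') (r : ℤ) (hr : r₀ ≤ r)
    (pq : ℤ × ℤ) : (φ.hom (r + 1) (by omega)).f pq =
      (E.iso r (r + 1) pq rfl hr).inv ≫ HomologicalComplex.homologyMap (φ.hom r hr) pq ≫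
        (E'.iso r (r + 1) pq rfl hr).hom := by
  rw [φ.comm r (r + 1) pq rfl hr, Iso.inv_hom_id_assoc]

lemma hom_f_eq_zero_of_le {E E' : CohomologicalSpectralSequence C r₀} (φ : E ⟶ E') (r : ℤ)
    (hr : r₀ ≤ r) (pq : ℤ × ℤ) (h : (φ.hom r hr).f pq = 0) :
    ∀ (k : ℤ) (hk : r ≤ k), (φ.hom k (hr.trans hk)).f pq = 0 := by
  intro k hk
  induction k, hk using Int.le_induction with
  | base => exact h
  | succ n hn ih =>
    rw [hom_succ_eq φ n (hr.trans hn) pq,
      show HomologicalComplex.homologyMap (φ.hom n (hr.trans hn)) pq = 0 from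
        homologyMap_eq_zero_of_τ₂ _ ih, zero_comp, comp_zero]

theorem abutHom_hom_eq_zero (E E' : E₂CohomologicalSpectralSequence C) (φ : E ⟶ E') {H H' : ℤ → C}
    (a : SpSeq.Abutment E H) (a' : SpSeq.Abutment E' H')
    (ha : ∀ n : ℤ, a.IsFinite n) (ha' : ∀ n : ℤ, a'.IsFinite n)
    (f : SpSeqMor.AbutHom φ a a') (l a₀ : ℤ)
    (hE : ∀ i : ℤ, i < a₀ → IsZero ((E.page 2 le_rfl).X (i, l - i)))
    (hE' : ∀ i : ℤ, a₀ < i → IsZero ((E'.page 2 le_rfl).X (i, l - i)))
    (hφ : (φ.hom 2 le_rfl).f (a₀, l - a₀) = 0) : f.hom l = 0 := by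
  have hgr : ∀ n q : ℤ, a₀ + q = n → (φ.hom 2 le_rfl).f (a₀, q) = 0 →
      (f.fil n).gr a₀ = 0 := by
    rintro n q rfl h0
    have hk : a.rk (a₀, q) + ((max (a.rk (a₀, q)) (a'.rk (a₀, q)) - a.rk (a₀, q)).toNat : ℤ) =
        a'.rk (a₀, q) + ((max (a.rk (a₀, q)) (a'.rk (a₀, q)) - a'.rk (a₀, q)).toNat : ℤ) := by omega
    have hc := f.comm (a₀, q) _ _ hk
    rw [hom_f_eq_zero_of_le φ 2 le_rfl _ h0 _ (SpSeqMor.page_le (a'.stat (a₀, q)).1 _)] at hc
    simp only [zero_comp, comp_zero] at hc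
    exact (cancel_epi (a.β (a₀, q)).hom).mp (hc.trans comp_zero.symm)
  have ht : (a.filObj l).fil a₀ = ⊤ :=
    eq_top_of_isCodiscrete _ (ha l).1 _ fun p hp => isZero_gr E a l p 2 le_rfl (hE p hp)
  have hb : (a'.filObj l).fil (a₀ + 1) = ⊥ :=
    eq_bot_of_isDiscrete _ (ha' l).2 _ fun p hp => isZero_gr E' a' l p 2 le_rfl (hE' p (by omega))
  haveI := isIso_cokernelπ_of_bot (a'.filObj l) a₀ hb
  haveI : IsIso ((a.filObj l).fil a₀).arrow := (Subobject.isIso_arrow_iff_eq_top _).mpr ht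
  have hg := hgr l (l - a₀) (by omega) hφ
  have hl : (f.fil l).lift a₀ = 0 := by
    have := congrArg (cokernel.π ((a.filObj l).stepLE (Int.le_add_one (le_refl a₀))) ≫ ·) hg
    simp only [SpSeqMor.FilLift.gr] at this
    erw [cokernel.π_desc] at this
    exact (cancel_mono (cokernel.π ((a'.filObj l).stepLE (Int.le_add_one (le_refl a₀))))).mp
      (this.trans (comp_zero.trans zero_comp.symm))
  have := (f.fil l).lift_arrow a₀
  rw [hl, zero_comp] at this
  exact (cancel_epi ((a.filObj l).fil a₀).arrow).mp (this.symm.trans comp_zero.symm)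

theorem degenerates_two (E E' : E₂CohomologicalSpectralSequence C) (φ : E ⟶ E')
    (hE : ∀ pq : ℤ × ℤ, pq.1 < 0 ∨ pq.2 < 0 → IsZero ((E.page 2 le_rfl).X pq))
    (hd' : ∀ (r : ℤ) (hr : 2 ≤ r) (pq : ℤ × ℤ), pq.1 ≠ 0 →
      (E'.page r hr).d pq (pq + (r, 1 - r)) = 0)
    (hφd : ∀ (r : ℤ) (hr : 2 ≤ r) (pq : ℤ × ℤ),
      (φ.hom r hr).f pq ≫ (E'.page r hr).d pq (pq + (r, 1 - r)) = 0)
    (hmono : ∀ pq : ℤ × ℤ, Mono ((φ.hom 2 le_rfl).f pq)) :
    SpSeq.Degenerates E 2 := by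
  have key : ∀ (r : ℤ) (hr : 2 ≤ r),
      (∀ pq : ℤ × ℤ, r ≤ pq.1 → Mono ((φ.hom r hr).f pq)) →
      ∀ pq : ℤ × ℤ, (E.page r hr).d pq (pq + (r, 1 - r)) = 0 := fun r hr hm pq => by
    by_cases hp : pq.1 < 0
    · exact (isZero_page_of_le E 2 le_rfl pq (hE pq (Or.inl hp)) r hr).eq_of_src _ _
    · haveI := hm (pq + (r, 1 - r)) (by change r ≤ pq.1 + r; omega)
      rw [← cancel_mono ((φ.hom r hr).f (pq + (r, 1 - r))), zero_comp,
        ← (φ.hom r hr).comm pq (pq + (r, 1 - r)), hφd r hr pq]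
  have inv : ∀ (r : ℤ) (hr : 2 ≤ r) (pq : ℤ × ℤ), r ≤ pq.1 → Mono ((φ.hom r hr).f pq) := by
    intro r hr
    induction r, hr using Int.le_induction with
    | base => exact fun pq _ => hmono pq
    | succ n hn ih =>
      intro pq hpq
      haveI := ih pq (by omega)
      have h1 : (E.page n hn).d (pq - (n, 1 - n)) pq = 0 := by
        have := key n hn ih (pq - (n, 1 - n))
        rwa [sub_add_cancel] at this
      have h2 : (E'.page n hn).d (pq - (n, 1 - n)) pq = 0 := by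
        have := hd' n hn (pq - (n, 1 - n)) (by change pq.1 - n ≠ 0; omega)
        rwa [sub_add_cancel] at this
      haveI : Mono (((HomologicalComplex.shortComplexFunctor C
          (ComplexShape.up' ((n, 1 - n) : ℤ × ℤ)) pq).map (φ.hom n hn)).τ₂) :=
        (inferInstanceAs (Mono ((φ.hom n hn).f pq)))
      haveI : Mono (HomologicalComplex.homologyMap (φ.hom n hn) pq) :=
        mono_homologyMap_of_τ₂ _ (sc_f_eq_zero E n hn pq h1) (sc_f_eq_zero E' n hn pq h2)
      rw [hom_succ_eq φ n hn pq]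
      infer_instance
  exact ⟨le_rfl, fun r hr _ pq pq' => d_eq_zero_of_not_rel E r hr pq pq' (key r hr (inv r hr) pq)⟩

end Groth.Agent.H16Derived.SpFil
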