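import Groth.Agent.H16Derived.SpFil.Line
import Mathlib.Algebra.Category.ModuleCat.Abelian
import Mathlib.Algebra.Homology.ShortComplex.ModuleCat
import Mathlib.LinearAlgebra.Dimension.RankNullity
import Mathlib.Algebra.BigOperators.Intervals
import Mathlib.LinearAlgebra.FiniteDimensional.Lemmas
import Mathlib.Data.Int.Interval

/-!
# Dimensions in one total degree of a spectral sequence of vector spaces
-/

set_option autoImplicit false
set_option linter.style.haveILetI false

universe v u

open CategoryTheory CategoryTheory.Limits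

namespace Groth.Agent.H16Derived.SpFil

variable {K : Type u} [Field K] {r₀ : ℤ}

lemma finrank_homology (S : ShortComplex (ModuleCat.{v} K)) [Module.Finite K S.X₂] :
    Module.Finite K S.homology ∧ Module.finrank K S.homology ≤ Module.finrank K S.X₂ ∧
      (Module.finrank K S.homology = Module.finrank K S.X₂ → S.f = 0 ∧ S.g = 0) := by
  let e : S.homology ≃ₗ[K] (LinearMap.ker S.g.hom ⧸ LinearMap.range S.moduleCatToCycles) :=
    S.moduleCatHomologyIso.toLinearEquiv
  have h₁ : Module.finrank K (LinearMap.range S.g.hom) + Module.finrank K (LinearMap.ker S.g.hom) =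
      Module.finrank K S.X₂ := LinearMap.finrank_range_add_finrank_ker S.g.hom
  have h₂ : Module.finrank K S.homology + Module.finrank K (LinearMap.range S.moduleCatToCycles) =
      Module.finrank K (LinearMap.ker S.g.hom) :=
    e.finrank_eq ▸ Submodule.finrank_quotient_add_finrank (LinearMap.range S.moduleCatToCycles)
  refine ⟨Module.Finite.equiv e.symm, by omega, fun h => ⟨?_, ?_⟩⟩
  · have h0 : LinearMap.range S.moduleCatToCycles = ⊥ := Submodule.finrank_eq_zero.mp (by omega)
    ext x
    exact congrArg Subtype.val (LinearMap.congr_fun (LinearMap.range_eq_bot.mp h0) x)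
  · have h0 : LinearMap.range S.g.hom = ⊥ := by
      haveI : Module.Finite K (LinearMap.range S.g.hom) :=
        Module.Finite.of_surjective _ S.g.hom.surjective_rangeRestrict
      exact Submodule.finrank_eq_zero.mp (by omega)
    exact ModuleCat.hom_ext (LinearMap.range_eq_bot.mp h0)

lemma finrank_le_of_page (E : CohomologicalSpectralSequence (ModuleCat.{v} K) r₀) (r : ℤ)
    (hr : r₀ ≤ r) (pq : ℤ × ℤ) (hf : Module.Finite K ((E.page r hr).X pq)) :
    ∀ (k : ℤ) (hk : r ≤ k), Module.Finite K ((E.page k (hr.trans hk)).X pq) ∧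
      Module.finrank K ((E.page k (hr.trans hk)).X pq) ≤ Module.finrank K ((E.page r hr).X pq) := by
  intro k hk
  induction k, hk using Int.le_induction with
  | base => exact ⟨hf, le_rfl⟩
  | succ n hn ih =>
    obtain ⟨h₁, h₂⟩ := ih
    haveI : Module.Finite K ((E.page n (hr.trans hn)).sc pq).X₂ := h₁
    obtain ⟨h₃, h₄, -⟩ := finrank_homology ((E.page n (hr.trans hn)).sc pq)
    let e : (E.page n (hr.trans hn)).homology pq ≃ₗ[K] (E.page (n + 1) (by omega)).X pq :=
      (E.iso n (n + 1) pq rfl (hr.trans hn)).toLinearEquiv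
    haveI : Module.Finite K ((E.page n (hr.trans hn)).homology pq) := h₃
    exact ⟨Module.Finite.equiv e, (e.finrank_eq.symm.trans_le h₄).trans h₂⟩

lemma finrank_eq_of_stationary (E : CohomologicalSpectralSequence (ModuleCat.{v} K) r₀) (pq : ℤ × ℤ)
    (s : ℤ) (hs : SpSeq.StationaryAt E pq s) (k : ℤ) (hk : s ≤ k) :
    Module.finrank K ((E.page k (hs.1.trans hk)).X pq) = Module.finrank K ((E.page s hs.1).X pq) := by
  obtain ⟨j, rfl⟩ : ∃ j : ℕ, k = s + j := ⟨(k - s).toNat, by omega⟩
  exact (SpSeqMor.statXIso E pq s hs j).toLinearEquiv.finrank_eq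

lemma stationary_of_finrank_eq (E : CohomologicalSpectralSequence (ModuleCat.{v} K) r₀) (pq : ℤ × ℤ)
    (s : ℤ) (hs : SpSeq.StationaryAt E pq s) (hf : Module.Finite K ((E.page r₀ le_rfl).X pq))
    (h : Module.finrank K ((E.page s hs.1).X pq) = Module.finrank K ((E.page r₀ le_rfl).X pq)) :
    SpSeq.StationaryAt E pq r₀ := by
  have heq : ∀ (k : ℤ) (hk : r₀ ≤ k),
      Module.finrank K ((E.page k hk).X pq) = Module.finrank K ((E.page r₀ le_rfl).X pq) := fun k hk => by
    obtain ⟨h₁, h₂⟩ := finrank_le_of_page E r₀ le_rfl pq hf k hk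
    refine le_antisymm h₂ (h.symm.le.trans ?_)
    rw [← finrank_eq_of_stationary E pq s hs (max s k) (le_max_left _ _)]
    exact (finrank_le_of_page E k hk pq h₁ (max s k) (le_max_right _ _)).2
  refine ⟨le_rfl, fun r hr _ => ?_⟩
  haveI : Module.Finite K ((E.page r hr).sc pq).X₂ := (finrank_le_of_page E r₀ le_rfl pq hf r hr).1
  obtain ⟨hf0, hg0⟩ := (finrank_homology ((E.page r hr).sc pq)).2.2
    ((E.iso r (r + 1) pq rfl hr).toLinearEquiv.finrank_eq.trans
      ((heq (r + 1) (by omega)).trans (heq r hr).symm))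
  change (E.page r hr).d _ pq = 0 at hf0
  change (E.page r hr).d pq _ = 0 at hg0
  rw [(ComplexShape.up' ((r, 1 - r) : ℤ × ℤ)).prev_eq' (sub_add_cancel pq ((r, 1 - r) : ℤ × ℤ))] at hf0
  rw [(ComplexShape.up' ((r, 1 - r) : ℤ × ℤ)).next_eq' rfl] at hg0
  exact ⟨hf0, hg0⟩

section Fil

variable (F : SpSeq.FilObj (ModuleCat.{v} K)) [Module.Finite K F.obj]

instance finite_step (p : ℤ) : Module.Finite K (F.step p) :=
  FiniteDimensional.of_injective (F.fil p).arrow.hom
    ((ModuleCat.mono_iff_injective _).mp inferInstance)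

lemma finrank_step (p : ℤ) :
    Module.finrank K (F.step p) = Module.finrank K (F.gr p) + Module.finrank K (F.step (p + 1)) := by
  let ι := F.stepLE (Int.le_add_one (le_refl p))
  let S := ShortComplex.mk ι (cokernel.π ι) (cokernel.condition ι)
  have hS : S.Exact := ShortComplex.exact_of_g_is_cokernel S (cokernelIsCokernel ι)
  have hi : Function.Injective ι.hom := (ModuleCat.mono_iff_injective _).mp inferInstance
  have hs : Function.Surjective (cokernel.π ι).hom := (ModuleCat.epi_iff_surjective _).mp inferInstance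
  rw [← LinearMap.finrank_range_add_finrank_ker (cokernel.π ι).hom,
    LinearMap.range_eq_top.mpr hs, finrank_top, ← hS.moduleCat_range_eq_ker,
    LinearMap.finrank_range_of_inj hi]
  rfl

lemma finrank_fil (a b : ℤ) (hab : a ≤ b) :
    Module.finrank K (F.step a) =
      (∑ p ∈ Finset.Ico a b, Module.finrank K (F.gr p)) + Module.finrank K (F.step b) := by
  induction b, hab using Int.le_induction with
  | base => simp
  | succ n hn ih =>
    rw [ih, show Finset.Ico a (n + 1) = insert n (Finset.Ico a n) by ext x; simp; omega,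
      Finset.sum_insert (by simp), finrank_step F n]
    omega

lemma finrank_obj (hF : F.IsFinite) (a b : ℤ) (hout : ∀ p, p < a ∨ b ≤ p → IsZero (F.gr p)) :
    Module.finrank K F.obj = ∑ p ∈ Finset.Ico a b, Module.finrank K (F.gr p) := by
  rcases le_or_gt a b with hab | hab
  · have ht := eq_top_of_isCodiscrete F hF.1 a fun p hp => hout p (Or.inl hp)
    have hb := eq_bot_of_isDiscrete F hF.2 b fun p hp => hout p (Or.inr hp)
    haveI : IsIso (F.fil a).arrow := (Subobject.isIso_arrow_iff_eq_top _).mpr ht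
    have hz : IsZero (F.step b) := by
      rw [SpSeq.FilObj.step, hb]
      exact (isZero_zero _).of_iso Subobject.botCoeIsoZero
    haveI := ModuleCat.subsingleton_of_isZero hz
    rw [← (asIso (F.fil a).arrow).toLinearEquiv.finrank_eq, finrank_fil F a b hab,
      Module.finrank_zero_of_subsingleton (M := F.step b), add_zero]
  · have ht := eq_top_of_isCodiscrete F hF.1 a fun p hp => hout p (Or.inl hp)
    have hb := eq_bot_of_isDiscrete F hF.2 a fun p hp => hout p (Or.inr (by omega))
    haveI : IsIso (F.fil a).arrow := (Subobject.isIso_arrow_iff_eq_top _).mpr ht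
    have hz : IsZero (F.step a) := by
      rw [SpSeq.FilObj.step, hb]
      exact (isZero_zero _).of_iso Subobject.botCoeIsoZero
    haveI := ModuleCat.subsingleton_of_isZero hz
    rw [← (asIso (F.fil a).arrow).toLinearEquiv.finrank_eq,
      Module.finrank_zero_of_subsingleton (M := F.step a), Finset.Ico_eq_empty (by omega),
      Finset.sum_empty]

end Fil

theorem stationaryAt_line (E : CohomologicalSpectralSequence (ModuleCat.{v} K) r₀)
    {H : ℤ → ModuleCat.{v} K} (a : SpSeq.Abutment E H) (n : ℤ) (hfin : a.IsFinite n)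
    (hquad : ∀ pq : ℤ × ℤ, pq.1 < 0 ∨ pq.2 < 0 → IsZero ((E.page r₀ le_rfl).X pq))
    (hfd : ∀ pq : ℤ × ℤ, Module.Finite K ((E.page r₀ le_rfl).X pq))
    (hH : Module.Finite K (H n))
    (hsum : ∑ s ∈ Finset.Icc (0 : ℤ) n, Module.finrank K ((E.page r₀ le_rfl).X (s, n - s)) =
      Module.finrank K (H n)) :
    ∀ s : ℤ, SpSeq.StationaryAt E (s, n - s) r₀ := by
  intro s
  by_cases hs : s ∈ Finset.Icc (0 : ℤ) n
  swap
  · rw [Finset.mem_Icc] at hs
    refine ⟨le_rfl, fun r hr _ => ?_⟩
    have hz := isZero_page_of_le E r₀ le_rfl (s, n - s) (hquad (s, n - s) (by dsimp; omega)) r hr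
    exact ⟨hz.eq_of_tgt _ _, hz.eq_of_src _ _⟩
  haveI : Module.Finite K (a.filObj n).obj := hH
  have hle : ∀ p, Module.finrank K ((a.filObj n).gr p) ≤
      Module.finrank K ((E.page r₀ le_rfl).X (p, n - p)) := fun p => by
    obtain ⟨e⟩ := nonempty_iso_gr E a n p (n - p) (by omega) _ (a.stat (p, n - p))
    exact e.toLinearEquiv.finrank_eq.trans_le
      (finrank_le_of_page E r₀ le_rfl _ (hfd _) _ (a.stat (p, n - p)).1).2
  have htot : Module.finrank K (H n) =
      ∑ p ∈ Finset.Icc (0 : ℤ) n, Module.finrank K ((a.filObj n).gr p) := by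
    rw [show Finset.Icc (0 : ℤ) n = Finset.Ico 0 (n + 1) by ext x; simp; omega]
    exact finrank_obj (a.filObj n) hfin 0 (n + 1) fun p hp =>
      isZero_gr E a n p r₀ le_rfl (hquad _ (by dsimp; omega))
  have heq := (Finset.sum_eq_sum_iff_of_le fun p _ => hle p).mp (htot.symm.trans hsum.symm) s hs
  obtain ⟨e⟩ := nonempty_iso_gr E a n s (n - s) (by omega) _ (a.stat (s, n - s))
  exact stationary_of_finrank_eq E _ _ (a.stat (s, n - s)) (hfd _)
    (e.toLinearEquiv.finrank_eq.symm.trans heq)

end Groth.Agent.H16Derived.SpFil
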