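import Groth.Prelude.Def_SpSeq
import Mathlib.CategoryTheory.Abelian.Refinements
import Mathlib.CategoryTheory.Limits.Shapes.Pullback.IsPullback.Basic
import Mathlib.CategoryTheory.Abelian.CommSq

/-!
# Strict morphisms of filtered objects, by refinements
-/

set_option autoImplicit false
set_option linter.style.haveILetI false

universe v u

open CategoryTheory CategoryTheory.Limits

namespace Groth.Agent.H16Derived.SpFil

variable {A : Type u} [Category.{v} A] [Abelian A]

lemma factors_image_iff {X Y T : A} (g : X ⟶ Y) (z : T ⟶ Y) :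
    (imageSubobject g).Factors z ↔ ∃ (T' : A) (π : T' ⟶ T) (_ : Epi π) (w : T' ⟶ X), π ≫ z = w ≫ g := by
  constructor
  · intro h
    obtain ⟨T', π, hπ, w, hw⟩ := surjective_up_to_refinements_of_epi (factorThruImageSubobject g) (Subobject.factorThru _ z h)
    refine ⟨T', π, hπ, w, ?_⟩
    have := hw =≫ (imageSubobject g).arrow
    rwa [Category.assoc, Category.assoc, Subobject.factorThru_arrow, imageSubobject_arrow_comp] at this
  · rintro ⟨T', π, hπ, w, hw⟩
    haveI : StrongEpi π := strongEpi_of_epi π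
    have sq : CommSq (w ≫ factorThruImageSubobject g) π (imageSubobject g).arrow z :=
      ⟨by rw [Category.assoc, imageSubobject_arrow_comp, hw]⟩
    exact (Subobject.factors_iff _ _).2 ⟨sq.lift, sq.fac_right⟩

lemma factors_of_epi {X T T' : A} (S : Subobject X) (π : T' ⟶ T) [Epi π] (z : T ⟶ X) (h : S.Factors (π ≫ z)) :
    S.Factors z := by
  haveI : StrongEpi π := strongEpi_of_epi π
  have sq : CommSq (S.factorThru _ h) π S.arrow z := ⟨Subobject.factorThru_arrow _ _ _⟩
  exact (Subobject.factors_iff _ _).2 ⟨sq.lift, sq.fac_right⟩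

lemma le_of_refinements {X : A} (S R : Subobject X)
    (h : ∀ (T : A) (z : T ⟶ X), S.Factors z → ∃ (T' : A) (π : T' ⟶ T) (_ : Epi π), R.Factors (π ≫ z)) : S ≤ R := by
  obtain ⟨T', π, hπ, hR⟩ := h _ S.arrow (Subobject.factors_self _)
  have := factors_of_epi R π S.arrow hR
  exact Subobject.le_of_comm (Subobject.factorThru _ _ this) (Subobject.factorThru_arrow _ _ _)

lemma factors_pullback_iff {X Y T : A} (f : X ⟶ Y) (S : Subobject Y) (z : T ⟶ X) :
    ((Subobject.pullback f).obj S).Factors z ↔ S.Factors (z ≫ f) := by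
  rw [Subobject.pullback_obj, Subobject.mk_factors_iff]
  constructor
  · rintro ⟨w, rfl⟩
    refine (Subobject.factors_iff _ _).2 ⟨w ≫ pullback.fst S.arrow f, ?_⟩
    change (w ≫ pullback.fst S.arrow f) ≫ S.arrow = (w ≫ pullback.snd S.arrow f) ≫ f
    simp [pullback.condition]
  · intro h
    exact ⟨pullback.lift (S.factorThru _ h) z (Subobject.factorThru_arrow _ _ _), pullback.lift_snd _ _ _⟩

variable {K L M P : SpSeq.FilObj A}

/-- Strictness by refinements. -/
def StrictUp (f : K ⟶ L) : Prop :=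
  ∀ (p : ℤ) (T : A) (x : T ⟶ K.obj), (L.fil p).Factors (x ≫ f.hom) →
    ∃ (T' : A) (π : T' ⟶ T) (_ : Epi π) (x' : T' ⟶ K.obj), (K.fil p).Factors x' ∧ π ≫ x ≫ f.hom = x' ≫ f.hom

lemma factors_map (f : K ⟶ L) {p : ℤ} {T : A} {x : T ⟶ K.obj} (h : (K.fil p).Factors x) :
    (L.fil p).Factors (x ≫ f.hom) :=
  (factors_pullback_iff f.hom _ x).1 (Subobject.factors_of_le x (f.compat p) h)

theorem isStrict_iff (f : K ⟶ L) : SpSeq.FilObj.IsStrict f ↔ StrictUp f := by
  constructor
  · intro h p T x hx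
    have hz : (imageSubobject f.hom ⊓ L.fil p).Factors (x ≫ f.hom) :=
      (Subobject.inf_factors _).2 ⟨imageSubobject_factors_comp_self _ x, hx⟩
    rw [← h p] at hz
    obtain ⟨T', π, hπ, w, hw⟩ := (factors_image_iff _ _).1 hz
    exact ⟨T', π, hπ, w ≫ (K.fil p).arrow, Subobject.factors_comp_arrow _,
      hw.trans (Category.assoc _ _ _).symm⟩
  · intro h p
    refine le_antisymm (le_inf (imageSubobject_comp_le _ _) ?_) (le_of_refinements _ _ fun T z hz => ?_)
    · refine le_of_refinements _ _ fun T z hz => ?_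
      obtain ⟨T', π, hπ, w, hw⟩ := (factors_image_iff _ _).1 hz
      refine ⟨T', π, hπ, ?_⟩
      rw [hw, ← Category.assoc]
      exact factors_map f (Subobject.factors_comp_arrow _)
    · obtain ⟨h₁, h₂⟩ := (Subobject.inf_factors _).1 hz
      obtain ⟨T₁, π₁, hπ₁, x, hx⟩ := (factors_image_iff _ _).1 h₁
      obtain ⟨T₂, π₂, hπ₂, x', hx', hxx⟩ := h p T₁ x (hx ▸ Subobject.factors_of_factors_right π₁ h₂)
      refine ⟨T₂, π₂ ≫ π₁, epi_comp' hπ₂ hπ₁, (factors_image_iff _ _).2
        ⟨T₂, 𝟙 _, inferInstance, (K.fil p).factorThru x' hx', ?_⟩⟩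
      rw [Category.id_comp, Subobject.factorThru_arrow_assoc, Category.assoc, hx, hxx]

lemma strictUp_comp_of_mono {f : K ⟶ L} {g : L ⟶ M} (hf : StrictUp f) (hg : StrictUp g) [Mono g.hom] :
    StrictUp (f ≫ g) := by
  intro p T x hx
  have hfg : (f ≫ g).hom = f.hom ≫ g.hom := rfl
  obtain ⟨T₁, π₁, hπ₁, y, hy, hxy⟩ := hg p T (x ≫ f.hom) (by rw [Category.assoc, ← hfg]; exact hx)
  have : π₁ ≫ x ≫ f.hom = y := by
    rw [← cancel_mono g.hom, ← hxy]
    simp
  obtain ⟨T₂, π₂, hπ₂, x', hx', hxx⟩ := hf p T₁ (π₁ ≫ x) (by rw [Category.assoc, this]; exact hy)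
  refine ⟨T₂, π₂ ≫ π₁, epi_comp' hπ₂ hπ₁, x', hx', ?_⟩
  rw [hfg]
  simp only [Category.assoc] at hxx ⊢
  rw [← reassoc_of% hxx]

lemma strictUp_comp_of_epi {f : K ⟶ L} {g : L ⟶ M} (hf : StrictUp f) (hg : StrictUp g) [Epi f.hom] :
    StrictUp (f ≫ g) := by
  intro p T x hx
  have hfg : (f ≫ g).hom = f.hom ≫ g.hom := rfl
  obtain ⟨T₁, π₁, hπ₁, y, hy, hxy⟩ := hg p T (x ≫ f.hom) (by rw [Category.assoc, ← hfg]; exact hx)
  obtain ⟨T₂, π₂, hπ₂, z, hz⟩ := surjective_up_to_refinements_of_epi f.hom y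
  obtain ⟨T₃, π₃, hπ₃, x', hx', hxx⟩ := hf p T₂ z (hz ▸ Subobject.factors_of_factors_right π₂ hy)
  refine ⟨T₃, π₃ ≫ π₂ ≫ π₁, epi_comp' hπ₃ (epi_comp' hπ₂ hπ₁), x', hx', ?_⟩
  rw [hfg]
  simp only [Category.assoc] at hxy ⊢
  rw [hxy, reassoc_of% hz, reassoc_of% hxx]

lemma strictUp_of_iso (e : K ≅ L) : StrictUp e.hom := by
  intro p T x hx
  refine ⟨T, 𝟙 T, inferInstance, (x ≫ e.hom.hom) ≫ e.inv.hom, factors_map e.inv hx, ?_⟩
  have h₁ : e.hom.hom ≫ e.inv.hom = 𝟙 _ := congrArg SpSeq.FilObj.Hom.hom e.hom_inv_id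
  have h₂ : e.inv.hom ≫ e.hom.hom = 𝟙 _ := congrArg SpSeq.FilObj.Hom.hom e.inv_hom_id
  rw [Category.assoc, Category.assoc, h₂, Category.comp_id, Category.id_comp]

lemma isIso_hom (e : K ≅ L) : IsIso e.hom.hom := inferInstanceAs (IsIso ((SpSeq.FilObj.forget).map e.hom))

section Pushout

variable (f : K ⟶ L) (g : K ⟶ M)

/-- The pushout of filtered objects. -/
noncomputable abbrev po : SpSeq.FilObj A where
  obj := pushout f.hom g.hom
  fil p := imageSubobject ((L.fil p).arrow ≫ pushout.inl f.hom g.hom) ⊔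
    imageSubobject ((M.fil p).arrow ≫ pushout.inr f.hom g.hom)
  anti p q h := sup_le_sup
    (imageSubobject_le _ (Subobject.ofLE _ _ (L.anti h) ≫ factorThruImageSubobject _) (by simp) |>.trans le_rfl)
    (imageSubobject_le _ (Subobject.ofLE _ _ (M.anti h) ≫ factorThruImageSubobject _) (by simp) |>.trans le_rfl)

lemma le_pullback_of_forall {X Y : A} (φ : X ⟶ Y) (S : Subobject X) (R : Subobject Y)
    (h : R.Factors (S.arrow ≫ φ)) : S ≤ (Subobject.pullback φ).obj R :=
  Subobject.le_of_comm (Subobject.factorThru _ _ ((factors_pullback_iff _ _ _).2 h)) (Subobject.factorThru_arrow _ _ _)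

/-- The first coprojection. -/
noncomputable def poInl : L ⟶ po f g :=
  ⟨pushout.inl f.hom g.hom, fun p => le_pullback_of_forall _ _ _ (Subobject.factors_of_le _ le_sup_left
    ((factors_image_iff _ _).2 ⟨_, 𝟙 _, inferInstance, 𝟙 _, rfl⟩))⟩

/-- The second coprojection. -/
noncomputable def poInr : M ⟶ po f g :=
  ⟨pushout.inr f.hom g.hom, fun p => le_pullback_of_forall _ _ _ (Subobject.factors_of_le _ le_sup_right
    ((factors_image_iff _ _).2 ⟨_, 𝟙 _, inferInstance, 𝟙 _, rfl⟩))⟩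

lemma isPushout_po : IsPushout f g (poInl f g) (poInr f g) := by
  have w : f ≫ poInl f g = g ≫ poInr f g := SpSeq.FilObj.Hom.ext pushout.condition
  refine IsPushout.mk' w (fun T φ φ' h₁ h₂ => SpSeq.FilObj.Hom.ext (pushout.hom_ext
    (congrArg SpSeq.FilObj.Hom.hom h₁) (congrArg SpSeq.FilObj.Hom.hom h₂))) fun T a b hab => ?_
  let d := pushout.desc a.hom b.hom (congrArg SpSeq.FilObj.Hom.hom hab)
  refine ⟨⟨d, fun p => sup_le ?_ ?_⟩, SpSeq.FilObj.Hom.ext (pushout.inl_desc _ _ _), SpSeq.FilObj.Hom.ext (pushout.inr_desc _ _ _)⟩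
  · refine le_of_refinements _ _ fun U z hz => ?_
    obtain ⟨U', π, hπ, w', hw⟩ := (factors_image_iff _ _).1 hz
    refine ⟨U', π, hπ, (factors_pullback_iff _ _ _).2 ?_⟩
    rw [hw, Category.assoc, Category.assoc, pushout.inl_desc, ← Category.assoc]
    exact factors_map a (Subobject.factors_comp_arrow _)
  · refine le_of_refinements _ _ fun U z hz => ?_
    obtain ⟨U', π, hπ, w', hw⟩ := (factors_image_iff _ _).1 hz
    refine ⟨U', π, hπ, (factors_pullback_iff _ _ _).2 ?_⟩
    rw [hw, Category.assoc, Category.assoc, pushout.inr_desc, ← Category.assoc]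
    exact factors_map b (Subobject.factors_comp_arrow _)

lemma exists_factors_sup {X Y Z T : A} (u : X ⟶ Z) (v : Y ⟶ Z) (z : T ⟶ Z)
    (h : (imageSubobject u ⊔ imageSubobject v).Factors z) :
    ∃ (T' : A) (π : T' ⟶ T) (_ : Epi π) (a : T' ⟶ X) (b : T' ⟶ Y), π ≫ z = a ≫ u + b ≫ v := by
  have hle : imageSubobject u ⊔ imageSubobject v ≤ imageSubobject (biprod.desc u v) :=
    sup_le (imageSubobject_le _ (biprod.inl ≫ factorThruImageSubobject _) (by simp))
      (imageSubobject_le _ (biprod.inr ≫ factorThruImageSubobject _) (by simp))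
  obtain ⟨T', π, hπ, w, hw⟩ := (factors_image_iff _ _).1 (Subobject.factors_of_le z hle h)
  refine ⟨T', π, hπ, w ≫ biprod.fst, w ≫ biprod.snd, ?_⟩
  rw [hw, biprod.desc_eq, Preadditive.comp_add]
  simp

lemma strictUp_poInr (hf : StrictUp f) : StrictUp (poInr f g) := by
  intro p T y hy
  obtain ⟨T₁, π₁, hπ₁, a₀, b₀, hab⟩ := exists_factors_sup _ _ _ hy
  let a := a₀ ≫ (L.fil p).arrow
  let b := b₀ ≫ (M.fil p).arrow
  have hab' : π₁ ≫ y ≫ pushout.inr f.hom g.hom = a ≫ pushout.inl f.hom g.hom + b ≫ pushout.inr f.hom g.hom := by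
    simp only [a, b, Category.assoc]
    exact hab
  obtain ⟨T₂, π₂, hπ₂, (k : T₂ ⟶ K.obj), hk⟩ := (IsPushout.of_hasPushout f.hom g.hom).exact_shortComplex.exact_up_to_refinements
    (biprod.lift a (b - π₁ ≫ y)) (by
      show biprod.lift a (b - π₁ ≫ y) ≫ biprod.desc (pushout.inl f.hom g.hom) (pushout.inr f.hom g.hom) =
        (0 : T₁ ⟶ pushout f.hom g.hom)
      rw [biprod.lift_desc, Preadditive.sub_comp, Category.assoc π₁, hab']
      abel)
  have hk' : π₂ ≫ biprod.lift a (b - π₁ ≫ y) = k ≫ biprod.lift f.hom (-g.hom) := hk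
  have h₁ : π₂ ≫ a = k ≫ f.hom := by simpa using hk' =≫ biprod.fst
  have h₂ : π₂ ≫ (b - π₁ ≫ y) = -(k ≫ g.hom) := by
    rw [← Preadditive.comp_neg]
    simpa using hk' =≫ biprod.snd
  obtain ⟨T₃, π₃, hπ₃, k', hk'', hkk⟩ := hf p T₂ k
    (h₁ ▸ Subobject.factors_of_factors_right π₂ (Subobject.factors_comp_arrow _))
  refine ⟨T₃, π₃ ≫ π₂ ≫ π₁, epi_comp' hπ₃ (epi_comp' hπ₂ hπ₁), π₃ ≫ π₂ ≫ b + k' ≫ g.hom,
    Subobject.factors_add _ _ (Subobject.factors_of_factors_right π₃ (Subobject.factors_of_factors_right π₂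
      (Subobject.factors_comp_arrow _))) (factors_map g hk''), ?_⟩
  show (π₃ ≫ π₂ ≫ π₁) ≫ y ≫ pushout.inr f.hom g.hom = _ ≫ pushout.inr f.hom g.hom
  have e : π₂ ≫ π₁ ≫ y = π₂ ≫ b + k ≫ g.hom := by
    rw [Preadditive.comp_sub] at h₂
    rw [← sub_eq_zero] at h₂ ⊢
    rw [← neg_eq_zero, ← h₂]
    abel
  simp only [Category.assoc, reassoc_of% e, Preadditive.add_comp, Preadditive.comp_add]
  congr 1
  rw [← pushout.condition, reassoc_of% hkk]

end Pushout

section Pullback

variable (f : L ⟶ K) (g : M ⟶ K)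

/-- The fibre product of filtered objects. -/
noncomputable abbrev pb : SpSeq.FilObj A where
  obj := pullback f.hom g.hom
  fil p := (Subobject.pullback (pullback.fst f.hom g.hom)).obj (L.fil p) ⊓
    (Subobject.pullback (pullback.snd f.hom g.hom)).obj (M.fil p)
  anti p q h := inf_le_inf ((Subobject.pullback _).map (homOfLE (L.anti h))).le ((Subobject.pullback _).map (homOfLE (M.anti h))).le

/-- The first projection. -/
noncomputable def pbFst : pb f g ⟶ L := ⟨pullback.fst f.hom g.hom, fun _ => inf_le_left⟩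

/-- The second projection. -/
noncomputable def pbSnd : pb f g ⟶ M := ⟨pullback.snd f.hom g.hom, fun _ => inf_le_right⟩

lemma isPullback_pb : IsPullback (pbFst f g) (pbSnd f g) f g := by
  have w : pbFst f g ≫ f = pbSnd f g ≫ g := SpSeq.FilObj.Hom.ext pullback.condition
  refine IsPullback.mk' w (fun T φ φ' h₁ h₂ => SpSeq.FilObj.Hom.ext (pullback.hom_ext
    (congrArg SpSeq.FilObj.Hom.hom h₁) (congrArg SpSeq.FilObj.Hom.hom h₂))) fun T a b hab => ?_
  refine ⟨⟨pullback.lift a.hom b.hom (congrArg SpSeq.FilObj.Hom.hom hab), fun p => le_pullback_of_forall _ _ _ ?_⟩,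
    SpSeq.FilObj.Hom.ext (pullback.lift_fst _ _ _), SpSeq.FilObj.Hom.ext (pullback.lift_snd _ _ _)⟩
  refine (Subobject.inf_factors _).2 ⟨(factors_pullback_iff _ _ _).2 ?_, (factors_pullback_iff _ _ _).2 ?_⟩
  · rw [Category.assoc, pullback.lift_fst]
    exact factors_map a (Subobject.factors_self _)
  · rw [Category.assoc, pullback.lift_snd]
    exact factors_map b (Subobject.factors_self _)

lemma strictUp_pbSnd (hf : StrictUp f) : StrictUp (pbSnd f g) := by
  intro p T z hz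
  have hz' : (M.fil p).Factors (z ≫ pullback.snd f.hom g.hom) := hz
  obtain ⟨T', π, hπ, l, hl, hll⟩ := hf p T (z ≫ pullback.fst f.hom g.hom)
    (by rw [Category.assoc, pullback.condition, ← Category.assoc]; exact factors_map g hz')
  let z' := pullback.lift (f := f.hom) (g := g.hom) l (π ≫ z ≫ pullback.snd f.hom g.hom)
    (by rw [← hll]; simp [pullback.condition])
  refine ⟨T', π, hπ, z', (Subobject.inf_factors _).2 ⟨(factors_pullback_iff _ _ _).2 ?_,
    (factors_pullback_iff _ _ _).2 ?_⟩, (pullback.lift_snd _ _ _).symm⟩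
  · rw [pullback.lift_fst]; exact hl
  · rw [pullback.lift_snd]; exact Subobject.factors_of_factors_right π hz'

end Pullback

end Groth.Agent.H16Derived.SpFil
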