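import Groth.Agent.H16Derived.SpFil.Line
import Groth.Agent.H18Perf.Trace
import Mathlib.Algebra.Category.ModuleCat.ChangeOfRings
import Mathlib.LinearAlgebra.Eigenspace.Minpoly
import Mathlib.LinearAlgebra.Eigenspace.Charpoly
import Mathlib.LinearAlgebra.FiniteDimensional.Lemmas
import Mathlib.Analysis.Complex.Polynomial.Basic
import Mathlib.Analysis.Normed.Group.InfiniteSum
import Mathlib.Algebra.BigOperators.NatAntidiagonal
import Mathlib.Algebra.Order.Antidiag.Prod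

/-!
# Traces on the pages of a spectral sequence of vector spaces with an endomorphism
-/

set_option autoImplicit false
set_option linter.style.haveILetI false

universe u

open CategoryTheory CategoryTheory.Limits

namespace Groth.Agent.H16Derived.SpFil.Trace


/-- Restriction of scalars to `ℂ`. -/
noncomputable abbrev G : (ModuleCat.{u} (Polynomial ℂ)) ⥤ ModuleCat.{u} ℂ :=
  ModuleCat.restrictScalars (algebraMap ℂ (Polynomial ℂ))

/-- Multiplication by `X` on the underlying vector space. -/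
noncomputable abbrev phi (M : (ModuleCat.{u} (Polynomial ℂ))) : G.obj M →ₗ[ℂ] G.obj M :=
  (G.map ((Polynomial.X : Polynomial ℂ) • 𝟙 M)).hom

/-- Its trace. -/
noncomputable def tr (M : (ModuleCat.{u} (Polynomial ℂ))) : ℂ := LinearMap.trace ℂ _ (phi M)

lemma phi_nat {M N : (ModuleCat.{u} (Polynomial ℂ))} (f : M ⟶ N) :
    (G.map f).hom ∘ₗ phi M = phi N ∘ₗ (G.map f).hom :=
  LinearMap.ext fun x => f.hom.map_smul (Polynomial.X : Polynomial ℂ) x

lemma injective_map {M N : (ModuleCat.{u} (Polynomial ℂ))} (f : M ⟶ N) [Mono f] : Function.Injective (G.map f).hom :=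
  (ModuleCat.mono_iff_injective f).mp inferInstance

lemma surjective_map {M N : (ModuleCat.{u} (Polynomial ℂ))} (f : M ⟶ N) [Epi f] : Function.Surjective (G.map f).hom :=
  (ModuleCat.epi_iff_surjective f).mp inferInstance

/-- Dimension and eigenvalues bounded. -/
structure Bdd (M : (ModuleCat.{u} (Polynomial ℂ))) (C : ℝ) (D : ℕ) : Prop where
  fin : Module.Finite ℂ (G.obj M)
  eig : ∀ μ : ℂ, Module.End.HasEigenvalue (phi M) μ → ‖μ‖ ≤ C
  dim : Module.finrank ℂ (G.obj M) ≤ D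

lemma finite_of_mono {M N : (ModuleCat.{u} (Polynomial ℂ))} (f : M ⟶ N) [Mono f] (h : Module.Finite ℂ (G.obj N)) :
    Module.Finite ℂ (G.obj M) :=
  FiniteDimensional.of_injective _ (injective_map f)

lemma finite_of_epi {M N : (ModuleCat.{u} (Polynomial ℂ))} (f : M ⟶ N) [Epi f] (h : Module.Finite ℂ (G.obj M)) :
    Module.Finite ℂ (G.obj N) :=
  Module.Finite.of_surjective _ (surjective_map f)

lemma Bdd.of_mono {M N : (ModuleCat.{u} (Polynomial ℂ))} (f : M ⟶ N) [Mono f] {C : ℝ} {D : ℕ} (h : Bdd N C D) : Bdd M C D := by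
  haveI := h.fin
  refine ⟨finite_of_mono f h.fin, fun μ hμ => h.eig μ ?_,
    (LinearMap.finrank_le_finrank_of_injective (injective_map f)).trans h.dim⟩
  obtain ⟨v, hv⟩ := hμ.exists_hasEigenvector
  refine Module.End.hasEigenvalue_of_hasEigenvector (x := (G.map f).hom v)
    ⟨Module.End.mem_eigenspace_iff.mpr ?_, fun h0 => hv.2 (injective_map f (h0.trans (map_zero _).symm))⟩
  exact (LinearMap.congr_fun (phi_nat f) v).symm.trans
    ((congrArg (G.map f).hom hv.apply_eq_smul).trans (map_smul _ _ _))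

lemma Bdd.of_epi {M N : (ModuleCat.{u} (Polynomial ℂ))} (f : M ⟶ N) [Epi f] {C : ℝ} {D : ℕ} (h : Bdd M C D) : Bdd N C D := by
  haveI := h.fin
  haveI := finite_of_epi f h.fin
  refine ⟨finite_of_epi f h.fin, fun μ hμ => h.eig μ ?_,
    ((G.map f).hom.finrank_range_le.trans_eq' (by
      rw [LinearMap.range_eq_top.mpr (surjective_map f), finrank_top])).trans h.dim⟩
  rw [Module.End.hasEigenvalue_iff_isRoot] at hμ ⊢
  refine Polynomial.IsRoot.dvd hμ (minpoly.dvd ℂ _ ?_)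
  have hpow : ∀ (k : ℕ) (x : G.obj M), (G.map f).hom ((phi M ^ k) x) = (phi N ^ k) ((G.map f).hom x) := by
    intro k
    induction k with
    | zero => intro x; rfl
    | succ k ih =>
      intro x
      rw [pow_succ, pow_succ, Module.End.mul_apply, Module.End.mul_apply, ih]
      exact congrArg _ (LinearMap.congr_fun (phi_nat f) x)
  ext y
  obtain ⟨x, rfl⟩ := surjective_map f y
  have h0 := congrArg (G.map f).hom (LinearMap.congr_fun (minpoly.aeval ℂ (phi M)) x)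
  simp only [Polynomial.aeval_endomorphism, Polynomial.sum, map_sum, map_smul, hpow, LinearMap.zero_apply,
    map_zero] at h0 ⊢
  exact h0

lemma Bdd.norm_tr {M : (ModuleCat.{u} (Polynomial ℂ))} {C : ℝ} {D : ℕ} (hC : 0 ≤ C) (h : Bdd M C D) : ‖tr M‖ ≤ D * C := by
  haveI := h.fin
  rw [tr, Module.End.trace_eq_sum_roots_charpoly_of_splits (IsAlgClosed.splits _)]
  refine (norm_multiset_sum_le _).trans ((Multiset.sum_le_card_nsmul _ C ?_).trans ?_)
  · intro x hx
    obtain ⟨μ, hμ, rfl⟩ := Multiset.mem_map.mp hx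
    exact h.eig μ
      ((Module.End.hasEigenvalue_iff_isRoot_charpoly _ μ).mpr (Polynomial.isRoot_of_mem_roots hμ))
  · rw [Multiset.card_map, nsmul_eq_mul]
    refine mul_le_mul_of_nonneg_right ?_ hC
    exact_mod_cast ((Polynomial.card_roots' _).trans_eq (LinearMap.charpoly_natDegree _)).trans h.dim

lemma finite_of_isZero {M : (ModuleCat.{u} (Polynomial ℂ))} (h : IsZero M) : Module.Finite ℂ (G.obj M) := by
  haveI := ModuleCat.subsingleton_of_isZero (G.map_isZero h)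
  exact ⟨⟨∅, Subsingleton.elim _ _⟩⟩

lemma tr_of_isZero {M : (ModuleCat.{u} (Polynomial ℂ))} (h : IsZero M) : tr M = 0 := by
  rw [tr, show phi M = 0 from ?_, map_zero]
  haveI := ModuleCat.subsingleton_of_isZero (G.map_isZero h)
  exact LinearMap.ext fun x => Subsingleton.elim _ _

lemma tr_shortExact {S : ShortComplex (ModuleCat.{u} (Polynomial ℂ))} (hS : S.ShortExact) (hf : Module.Finite ℂ (G.obj S.X₂)) :
    tr S.X₂ = tr S.X₁ + tr S.X₃ := by
  haveI := hS.mono_f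
  haveI := hS.epi_g
  haveI := finite_of_mono S.f hf
  haveI := finite_of_epi S.g hf
  exact H18Perf.trace_eq_add (G.map S.f).hom (G.map S.g).hom (injective_map _) (surjective_map _)
    ((ShortComplex.ShortExact.moduleCat_exact_iff_function_exact S).mp hS.exact)
    (phi S.X₂) (phi S.X₁) (phi S.X₃) (phi_nat S.f).symm (phi_nat S.g)

lemma tr_iso {M N : (ModuleCat.{u} (Polynomial ℂ))} (e : M ≅ N) (hf : Module.Finite ℂ (G.obj M)) : tr M = tr N := by
  have hS : (ShortComplex.mk e.hom (0 : N ⟶ ModuleCat.of (Polynomial ℂ) PUnit.{u + 1}) comp_zero).ShortExact :=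
    { exact := (ShortComplex.exact_iff_epi _ rfl).mpr (inferInstanceAs (Epi e.hom))
      mono_f := inferInstanceAs (Mono e.hom)
      epi_g := ⟨fun a b _ => (ModuleCat.isZero_of_subsingleton _).eq_of_src _ _⟩ }
  have := tr_shortExact hS (finite_of_epi e.hom hf)
  rwa [show tr (ShortComplex.mk e.hom (0 : N ⟶ ModuleCat.of (Polynomial ℂ) PUnit.{u + 1}) comp_zero).X₃ = 0 from
    tr_of_isZero (ModuleCat.isZero_of_subsingleton _), add_zero, eq_comm] at this

/-- The trace of the image of a morphism. -/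
noncomputable def t {M N : (ModuleCat.{u} (Polynomial ℂ))} (f : M ⟶ N) : ℂ := tr M - tr (kernel f)

lemma t_of_isZero {M N : (ModuleCat.{u} (Polynomial ℂ))} (f : M ⟶ N) (h : IsZero M) : t f = 0 := by
  rw [t, tr_of_isZero h, tr_of_isZero (h.of_mono (kernel.ι f)), sub_self]

lemma t_eq_zero {M N : (ModuleCat.{u} (Polynomial ℂ))} (f : M ⟶ N) (hf : Module.Finite ℂ (G.obj M)) (h : f = 0) : t f = 0 := by
  subst h
  haveI : IsIso (kernel.ι (0 : M ⟶ N)) := kernel.ι_of_zero rfl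
  rw [t, tr_iso (asIso (kernel.ι (0 : M ⟶ N))) (finite_of_mono (kernel.ι _) hf), sub_self]

lemma tr_of_epi {M N : (ModuleCat.{u} (Polynomial ℂ))} (f : M ⟶ N) [Epi f] (hf : Module.Finite ℂ (G.obj M)) : tr N = t f := by
  have hS : (ShortComplex.mk (kernel.ι f) f (kernel.condition f)).ShortExact :=
    { exact := ShortComplex.exact_of_f_is_kernel _ (kernelIsKernel f)
      mono_f := inferInstanceAs (Mono (kernel.ι f))
      epi_g := inferInstanceAs (Epi f) }
  rw [t, show tr M = tr (kernel f) + tr N from tr_shortExact hS hf, add_sub_cancel_left]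

/-- Trace of homology. -/
lemma tr_homology (S : ShortComplex (ModuleCat.{u} (Polynomial ℂ))) (h₁ : Module.Finite ℂ (G.obj S.X₁))
    (h₂ : Module.Finite ℂ (G.obj S.X₂)) : tr S.X₂ = tr S.homology + t S.f + t S.g := by
  have hc : Module.Finite ℂ (G.obj S.cycles) := finite_of_mono S.iCycles h₂
  let T := ShortComplex.mk S.toCycles S.homologyπ S.toCycles_comp_homologyπ
  have hT : T.Exact := ShortComplex.exact_of_g_is_cokernel _ S.homologyIsCokernel
  haveI : Epi (kernel.lift S.homologyπ S.toCycles S.toCycles_comp_homologyπ) :=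
    (T.exact_iff_epi_kernel_lift).mp hT
  let l := kernel.lift S.homologyπ S.toCycles S.toCycles_comp_homologyπ
  have e : l ≫ kernel.ι S.homologyπ ≫ S.iCycles = S.f := by
    rw [kernel.lift_ι_assoc, S.toCycles_i]
  have e₁ : tr (kernel S.homologyπ) = t S.f := by
    rw [tr_of_epi l h₁, t, t]
    congr 1
    refine tr_iso ?_ (finite_of_mono (kernel.ι l) h₁)
    exact (kernelCompMono l (kernel.ι S.homologyπ ≫ S.iCycles)).symm ≪≫ kernelIsoOfEq e
  have e₂ : tr S.homology = tr S.cycles - tr (kernel S.homologyπ) := tr_of_epi S.homologyπ hc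
  have e₃ : tr S.cycles = tr (kernel S.g) := tr_iso S.cyclesIsoKernel hc
  rw [e₂, e₁, e₃, t, t]
  abel

lemma finite_homology (S : ShortComplex (ModuleCat.{u} (Polynomial ℂ)))
    (h : Module.Finite ℂ (G.obj S.X₂)) : Module.Finite ℂ (G.obj S.homology) :=
  finite_of_epi S.homologyπ (finite_of_mono S.iCycles h)

lemma Bdd.homology {S : ShortComplex (ModuleCat.{u} (Polynomial ℂ))} {C : ℝ} {D : ℕ} (h : Bdd S.X₂ C D) : Bdd S.homology C D :=
  (h.of_mono S.iCycles).of_epi S.homologyπ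

/-- The boundedness condition on a page. -/
def Cond (M : ℤ × ℤ → (ModuleCat.{u} (Polynomial ℂ))) (N : ℕ) (a c : ℕ → ℝ) (b d : ℕ → ℕ) : Prop :=
  (∀ pq : ℤ × ℤ, pq.1 < 0 ∨ pq.2 < 0 → IsZero (M pq)) ∧
    (∀ pq : ℤ × ℤ, Module.Finite ℂ (G.obj (M pq))) ∧
    (∀ p q : ℕ, N < q → IsZero (M ((p : ℤ), (q : ℤ)))) ∧
    (∀ (p q : ℕ) (μ : ℂ), Module.End.HasEigenvalue (phi (M ((p : ℤ), (q : ℤ)))) μ → ‖μ‖ ≤ a q * c p) ∧
    (∀ p q : ℕ, Module.finrank ℂ (G.obj (M ((p : ℤ), (q : ℤ)))) ≤ b q * d p)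

/-- The sign of a total degree. -/
noncomputable def sgn (pq : ℤ × ℤ) : ℂ := (-1 : ℂ) ^ (pq.1 + pq.2)

lemma norm_sgn (pq : ℤ × ℤ) : ‖sgn pq‖ = 1 := by rw [sgn, norm_zpow, norm_neg, norm_one, one_zpow]

lemma sgn_sub (pq : ℤ × ℤ) (r : ℤ) : sgn (pq - (r, 1 - r)) = - sgn pq := by
  simp only [sgn, Prod.fst_sub, Prod.snd_sub]
  rw [show pq.1 - r + (pq.2 - (1 - r)) = pq.1 + pq.2 + (-1 : ℤ) by ring, zpow_add₀ (by norm_num)]
  norm_num

variable {M : ℤ × ℤ → (ModuleCat.{u} (Polynomial ℂ))} {N : ℕ} {a c : ℕ → ℝ} {b d : ℕ → ℕ}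

lemma Cond.bdd (h : Cond M N a c b d) (p q : ℕ) :
    Bdd (M ((p : ℤ), (q : ℤ))) (a q * c p) (b q * d p) :=
  ⟨h.2.1 _, h.2.2.2.1 p q, h.2.2.2.2 p q⟩

/-- A function supported in the first quadrant. -/
def Quad (F : ℤ × ℤ → ℂ) : Prop := ∀ pq : ℤ × ℤ, pq.1 < 0 ∨ pq.2 < 0 → F pq = 0

/-- The quadrant as `ℕ × ℕ`. -/
def emb (pq : ℕ × ℕ) : ℤ × ℤ := ((pq.1 : ℤ), (pq.2 : ℤ))

lemma emb_injective : Function.Injective emb := fun x y h => by
  simp only [emb, Prod.mk.injEq, Nat.cast_inj] at h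
  exact Prod.ext h.1 h.2

lemma Quad.support {F : ℤ × ℤ → ℂ} (h : Quad F) : Function.support F ⊆ Set.range emb := by
  intro pq hpq
  have h1 : ¬ (pq.1 < 0 ∨ pq.2 < 0) := fun h' => hpq (h pq h')
  exact ⟨(pq.1.toNat, pq.2.toNat), by ext <;> simp [emb] <;> omega⟩

lemma summable_of_quad {F : ℤ × ℤ → ℂ} (hF : Quad F) (h : Summable (F ∘ emb)) : Summable F :=
  (emb_injective.summable_iff fun x hx => by_contra fun h' => hx (hF.support h')).mp h

lemma summable_of_bdd (hc : ∀ p, 0 ≤ c p) (ha : ∀ q, 0 ≤ a q)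
    (hsum : Summable fun p : ℕ => c p * (d p : ℝ)) {F : ℕ × ℕ → ℂ}
    (hF : ∀ p q, ‖F (p, q)‖ ≤ (b q * d p : ℕ) * (a q * c p)) (hz : ∀ p q, N < q → F (p, q) = 0) :
    Summable F := by
  have hb : Summable fun q : ℕ => if q ≤ N then (b q : ℝ) * a q else 0 :=
    summable_of_ne_finset_zero (s := Finset.range (N + 1)) fun q hq => if_neg (by simpa using hq)
  refine Summable.of_norm_bounded
    (hsum.mul_of_nonneg hb (fun p => mul_nonneg (hc p) (Nat.cast_nonneg _)) (fun q => ?_)) (fun pq => ?_)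
  · dsimp only
    split_ifs
    · exact mul_nonneg (Nat.cast_nonneg _) (ha q)
    · exact le_rfl
  · rcases le_or_gt pq.2 N with hq | hq
    · refine (hF pq.1 pq.2).trans_eq ?_
      rw [if_pos hq]; push_cast; ring
    · simp [hz pq.1 pq.2 hq, if_neg (not_le.mpr hq)]

lemma Cond.summable_tr (h : Cond M N a c b d) (ha : ∀ q, 0 ≤ a q) (hc : ∀ p, 0 ≤ c p)
    (hsum : Summable fun p : ℕ => c p * (d p : ℝ)) : Summable fun pq => sgn pq * tr (M pq) := by
  refine summable_of_quad (fun pq hpq => by rw [tr_of_isZero (h.1 pq hpq), mul_zero])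
    (summable_of_bdd (b := b) (d := d) (N := N) hc ha hsum (fun p q => ?_) fun p q hq => ?_)
  · simp only [Function.comp_apply, emb, norm_mul, norm_sgn, one_mul]
    exact (h.bdd p q).norm_tr (mul_nonneg (ha q) (hc p))
  · simp only [Function.comp_apply, emb, tr_of_isZero (h.2.2.1 p q hq), mul_zero]

/-- The kernels of a family of morphisms out of a bounded page. -/
lemma Cond.kernels (h : Cond M N a c b d) (M' : ℤ × ℤ → (ModuleCat.{u} (Polynomial ℂ))) (f : ∀ pq, M pq ⟶ M' pq) :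
    Cond (fun pq => kernel (f pq)) N a c b d :=
  ⟨fun pq hpq => (h.1 pq hpq).of_mono (kernel.ι _), fun pq => finite_of_mono (kernel.ι _) (h.2.1 pq),
    fun p q hq => (h.2.2.1 p q hq).of_mono (kernel.ι _),
    fun p q μ hμ => ((h.bdd p q).of_mono (kernel.ι (f _))).eig μ hμ,
    fun p q => ((h.bdd p q).of_mono (kernel.ι (f _))).dim⟩

variable {r₀ : ℤ} (E : CohomologicalSpectralSequence (ModuleCat.{u} (Polynomial ℂ)) r₀) (r : ℤ) (hr : r₀ ≤ r)

lemma cond_succ (h : Cond (E.page r hr).X N a c b d) :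
    Cond (E.page (r + 1) (Int.le_add_one hr)).X N a c b d := by
  have hb : ∀ (pq : ℤ × ℤ) {C : ℝ} {D : ℕ}, Bdd ((E.page r hr).X pq) C D →
      Bdd ((E.page (r + 1) (Int.le_add_one hr)).X pq) C D := fun pq C D hB =>
    (Bdd.homology (S := (E.page r hr).sc pq) hB).of_epi (E.iso r (r + 1) pq rfl hr).hom
  refine ⟨fun pq hpq => isZero_page_succ E r hr pq (h.1 pq hpq), fun pq => ?_,
    fun p q hq => isZero_page_succ E r hr _ (h.2.2.1 p q hq),
    fun p q μ hμ => (hb _ (h.bdd p q)).eig μ hμ, fun p q => (hb _ (h.bdd p q)).dim⟩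
  haveI := h.2.1 pq
  exact finite_of_epi (E.iso r (r + 1) pq rfl hr).hom
    (finite_homology ((E.page r hr).sc pq) (h.2.1 pq))

lemma tr_succ (h : Cond (E.page r hr).X N a c b d) (pq : ℤ × ℤ) :
    sgn pq * tr ((E.page (r + 1) (Int.le_add_one hr)).X pq) = sgn pq * tr ((E.page r hr).X pq) -
      (sgn pq * t ((E.page r hr).d pq (pq + (r, 1 - r))) -
        sgn (pq - (r, 1 - r)) * t ((E.page r hr).d (pq - (r, 1 - r)) (pq - (r, 1 - r) + (r, 1 - r)))) := by
  let K := E.page r hr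
  have hp : (ComplexShape.up' ((r, 1 - r) : ℤ × ℤ)).prev pq = pq - (r, 1 - r) :=
    (ComplexShape.up' ((r, 1 - r) : ℤ × ℤ)).prev_eq' (sub_add_cancel pq _)
  have hn : (ComplexShape.up' ((r, 1 - r) : ℤ × ℤ)).next pq = pq + (r, 1 - r) :=
    (ComplexShape.up' ((r, 1 - r) : ℤ × ℤ)).next_eq' rfl
  have hX : tr (K.X pq) = tr (K.sc' (pq - (r, 1 - r)) pq (pq + (r, 1 - r))).homology +
      t (K.d (pq - (r, 1 - r)) pq) + t (K.d pq (pq + (r, 1 - r))) :=
    tr_homology (K.sc' (pq - (r, 1 - r)) pq (pq + (r, 1 - r))) (h.2.1 _) (h.2.1 _)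
  have hH : tr (K.sc' (pq - (r, 1 - r)) pq (pq + (r, 1 - r))).homology =
      tr ((E.page (r + 1) (Int.le_add_one hr)).X pq) :=
    tr_iso ((ShortComplex.homologyMapIso (K.isoSc' _ pq _ hp hn)).symm ≪≫ E.iso r (r + 1) pq rfl hr)
      (finite_homology (K.sc' _ pq _) (h.2.1 pq))
  rw [hX, hH, sgn_sub]
  have e : t (K.d (pq - (r, 1 - r)) (pq - (r, 1 - r) + (r, 1 - r))) = t (K.d (pq - (r, 1 - r)) pq) :=
    congrArg (fun j => t (K.d (pq - (r, 1 - r)) j)) (sub_add_cancel pq (r, 1 - r))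
  rw [e]
  ring

theorem tsum_succ (h : Cond (E.page r hr).X N a c b d) (ha : ∀ q, 0 ≤ a q) (hc : ∀ p, 0 ≤ c p)
    (hsum : Summable fun p : ℕ => c p * (d p : ℝ)) :
    ∑' pq, sgn pq * tr ((E.page (r + 1) (Int.le_add_one hr)).X pq) =
      ∑' pq, sgn pq * tr ((E.page r hr).X pq) := by
  let v : ℤ × ℤ → ℂ := fun pq => sgn pq * t ((E.page r hr).d pq (pq + (r, 1 - r)))
  have hv : Summable v := by
    refine ((h.summable_tr ha hc hsum).sub ((h.kernels (fun pq => (E.page r hr).X (pq + (r, 1 - r)))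
      fun pq => (E.page r hr).d pq (pq + (r, 1 - r))).summable_tr ha hc hsum)).congr fun pq => ?_
    simp only [v, t]
    ring
  let σ : ℤ × ℤ ≃ ℤ × ℤ := Equiv.subRight ((r, 1 - r) : ℤ × ℤ)
  have hv' : Summable (fun pq => v (pq - (r, 1 - r))) := (σ.summable_iff).mpr hv
  rw [tsum_congr fun pq => tr_succ E r hr h pq,
    (h.summable_tr ha hc hsum).tsum_sub (hv.sub hv'), hv.tsum_sub hv',
    show ∑' pq, v (pq - (r, 1 - r)) = ∑' pq, v pq from σ.tsum_eq v, sub_self, sub_zero]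

lemma tsum_quad (h : Cond M N a c b d) :
    ∑' pq, sgn pq * tr (M pq) =
      ∑' pq : ℕ × ℕ, (-1 : ℂ) ^ (pq.1 + pq.2) * tr (M ((pq.1 : ℤ), (pq.2 : ℤ))) := by
  have hq : Quad fun pq => sgn pq * tr (M pq) := fun pq hpq => by
    show sgn pq * tr (M pq) = 0
    rw [tr_of_isZero (h.1 pq hpq), mul_zero]
  rw [← emb_injective.tsum_eq hq.support]
  refine tsum_congr fun pq => ?_
  simp only [emb, sgn, ← Nat.cast_add, zpow_natCast]

theorem page_succ_bounds (h : Cond (E.page r hr).X N a c b d) (ha : ∀ q, 0 ≤ a q) (hc : ∀ p, 0 ≤ c p)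
    (hsum : Summable fun p : ℕ => c p * (d p : ℝ)) :
    Cond (E.page (r + 1) (Int.le_add_one hr)).X N a c b d ∧
      ∑' pq : ℕ × ℕ, (-1 : ℂ) ^ (pq.1 + pq.2) *
          tr ((E.page (r + 1) (Int.le_add_one hr)).X ((pq.1 : ℤ), (pq.2 : ℤ))) =
        ∑' pq : ℕ × ℕ, (-1 : ℂ) ^ (pq.1 + pq.2) * tr ((E.page r hr).X ((pq.1 : ℤ), (pq.2 : ℤ))) := by
  refine ⟨cond_succ E r hr h, ?_⟩
  rw [← tsum_quad (cond_succ E r hr h), ← tsum_quad h, tsum_succ E r hr h ha hc hsum]

lemma cond_of_le (h : Cond (E.page r hr).X N a c b d) (ha : ∀ q, 0 ≤ a q) (hc : ∀ p, 0 ≤ c p)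
    (hsum : Summable fun p : ℕ => c p * (d p : ℝ)) :
    ∀ (k : ℤ) (hk : r ≤ k), Cond (E.page k (hr.trans hk)).X N a c b d ∧
      ∑' pq, sgn pq * tr ((E.page k (hr.trans hk)).X pq) = ∑' pq, sgn pq * tr ((E.page r hr).X pq) := by
  intro k hk
  induction k, hk using Int.le_induction with
  | base => exact ⟨h, rfl⟩
  | succ n hn ih =>
    exact ⟨cond_succ E n (hr.trans hn) ih.1,
      (tsum_succ E n (hr.trans hn) ih.1 ha hc hsum).trans ih.2⟩

/-- Positions are stationary once the differentials are longer than the band. -/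
lemma stationary_of_band (h : Cond (E.page r hr).X N a c b d) (s : ℤ) (hs : r ≤ s) (hN : (N : ℤ) + 2 ≤ s)
    (pq : ℤ × ℤ) : SpSeq.StationaryAt E pq s := by
  refine ⟨hr.trans hs, fun r' h₀ hr' => ?_⟩
  have hz : ∀ x : ℤ × ℤ, x.2 < 0 ∨ (N : ℤ) < x.2 → IsZero ((E.page r' h₀).X x) := by
    intro x hx
    refine isZero_page_of_le E r hr x ?_ r' (hs.trans hr')
    by_cases h1 : x.1 < 0 ∨ x.2 < 0
    · exact h.1 x h1
    · have := h.2.2.1 x.1.toNat x.2.toNat (by omega)
      rwa [show ((x.1.toNat : ℤ), (x.2.toNat : ℤ)) = x by ext <;> simp <;> omega] at this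
  constructor
  · by_cases h1 : pq.2 < 0 ∨ (N : ℤ) < pq.2
    · exact (hz pq h1).eq_of_tgt _ _
    · exact (hz (pq - (r', 1 - r')) (by simp; omega)).eq_of_src _ _
  · by_cases h1 : pq.2 < 0 ∨ (N : ℤ) < pq.2
    · exact (hz pq h1).eq_of_src _ _
    · exact (hz (pq + (r', 1 - r')) (by simp; omega)).eq_of_tgt _ _

lemma finite_tr_of_shortExact {S : ShortComplex (ModuleCat.{u} (Polynomial ℂ))} (hS : S.ShortExact)
    (h₁ : Module.Finite ℂ (G.obj S.X₁)) (h₃ : Module.Finite ℂ (G.obj S.X₃)) :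
    Module.Finite ℂ (G.obj S.X₂) := by
  haveI := hS.mono_f
  haveI := hS.epi_g
  exact Module.Finite.of_exact (f := (G.map S.f).hom) (g := (G.map S.g).hom)
    ((ShortComplex.ShortExact.moduleCat_exact_iff_function_exact S).mp hS.exact) (surjective_map S.g)

lemma fil_sum (F : SpSeq.FilObj (ModuleCat.{u} (Polynomial ℂ))) (hgr : ∀ p, Module.Finite ℂ (G.obj (F.gr p))) :
    ∀ (k : ℕ) (p : ℤ), IsZero (F.step (p + k)) →
      Module.Finite ℂ (G.obj (F.step p)) ∧ tr (F.step p) = ∑ i ∈ Finset.range k, tr (F.gr (p + i)) := by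
  intro k
  induction k with
  | zero =>
    intro p hp
    rw [Nat.cast_zero, add_zero] at hp
    exact ⟨finite_of_isZero hp, by simp [tr_of_isZero hp]⟩
  | succ k ih =>
    intro p hp
    obtain ⟨h₁, h₂⟩ := ih (p + 1) (by rwa [show p + 1 + (k : ℤ) = p + ((k + 1 : ℕ) : ℤ) by push_cast; ring])
    have hS : (ShortComplex.mk (F.stepLE (Int.le_add_one (le_refl p)))
        (cokernel.π (F.stepLE (Int.le_add_one (le_refl p)))) (cokernel.condition _)).ShortExact :=
      { exact := ShortComplex.exact_of_g_is_cokernel _ (cokernelIsCokernel _)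
        mono_f := inferInstanceAs (Mono (F.stepLE (Int.le_add_one (le_refl p))))
        epi_g := inferInstanceAs (Epi (cokernel.π _)) }
    have hfin := finite_tr_of_shortExact hS h₁ (hgr p)
    refine ⟨hfin, ?_⟩
    rw [show tr (F.step p) = tr (F.step (p + 1)) + tr (F.gr p) from tr_shortExact hS hfin, h₂,
      Finset.sum_range_succ', Nat.cast_zero, add_zero]
    congr 1
    refine Finset.sum_congr rfl fun i _ => ?_
    congr 2
    push_cast
    ring

theorem abutment_trace (h : Cond (E.page r hr).X N a c b d) {H : ℤ → (ModuleCat.{u} (Polynomial ℂ))} (A : SpSeq.Abutment E H)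
    (hA : ∀ n, A.IsFinite n) (ha : ∀ q, 0 ≤ a q) (hc : ∀ p, 0 ≤ c p)
    (hsum : Summable fun p : ℕ => c p * (d p : ℝ)) :
    Summable (fun n : ℕ => ‖tr (H n)‖) ∧
      ∑' n : ℕ, (-1 : ℂ) ^ n * tr (H n) =
        ∑' pq : ℕ × ℕ, (-1 : ℂ) ^ (pq.1 + pq.2) * tr ((E.page r hr).X ((pq.1 : ℤ), (pq.2 : ℤ))) := by
  let s := max r ((N : ℤ) + 2)
  have hs : r ≤ s := le_max_left _ _
  obtain ⟨hS, hsumS⟩ := cond_of_le E r hr h ha hc hsum s hs
  let P := (E.page s (hr.trans hs)).X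
  have hiso : ∀ p q n : ℤ, p + q = n → Nonempty ((A.filObj n).gr p ≅ P (p, q)) := fun p q n hpq =>
    nonempty_iso_gr E A n p q hpq s (stationary_of_band E r hr h s hs (le_max_right _ _) (p, q))
  have hgrf : ∀ n p : ℤ, Module.Finite ℂ (G.obj ((A.filObj n).gr p)) := fun n p => by
    obtain ⟨e⟩ := hiso p (n - p) n (by omega)
    exact finite_of_mono e.hom (hS.2.1 _)
  have hH : ∀ n : ℕ, tr (H n) = ∑ x ∈ Finset.antidiagonal n, tr (P ((x.1 : ℤ), (x.2 : ℤ))) := by
    intro n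
    have hout : ∀ p : ℤ, p < 0 ∨ ((n + 1 : ℕ) : ℤ) ≤ p → IsZero ((A.filObj n).gr p) := fun p hp =>
      isZero_gr E A n p r hr (h.1 _ (by dsimp; omega))
    have ht := eq_top_of_isCodiscrete (A.filObj n) (hA n).1 0 fun p hp => hout p (Or.inl hp)
    have hb := eq_bot_of_isDiscrete (A.filObj n) (hA n).2 (0 + ((n + 1 : ℕ) : ℤ))
      fun p hp => hout p (Or.inr (by omega))
    haveI : IsIso ((A.filObj n).fil 0).arrow := (Subobject.isIso_arrow_iff_eq_top _).mpr ht
    have hz : IsZero ((A.filObj n).step (0 + ((n + 1 : ℕ) : ℤ))) := by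
      rw [SpSeq.FilObj.step, hb]
      exact (isZero_zero _).of_iso Subobject.botCoeIsoZero
    obtain ⟨hf, he⟩ := fil_sum (A.filObj n) (hgrf n) (n + 1) 0 hz
    rw [Finset.Nat.sum_antidiagonal_eq_sum_range_succ (fun i j => tr (P ((i : ℤ), (j : ℤ)))) n,
      show tr (H n) = tr ((A.filObj n).step 0) from (tr_iso (asIso ((A.filObj n).fil 0).arrow) hf).symm,
      he]
    refine Finset.sum_congr rfl fun i hi => ?_
    rw [Finset.mem_range] at hi
    obtain ⟨e⟩ := hiso (0 + i) ((n - i : ℕ) : ℤ) n (by omega)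
    rw [tr_iso e (hgrf _ _), zero_add]
  have hsq : Summable fun pq : ℕ × ℕ => (-1 : ℂ) ^ (pq.1 + pq.2) * tr (P ((pq.1 : ℤ), (pq.2 : ℤ))) :=
    summable_of_bdd (b := b) (d := d) (N := N) hc ha hsum (fun p q => by
      simp only [norm_mul, norm_pow, norm_neg, norm_one, one_pow, one_mul]
      exact (hS.bdd p q).norm_tr (mul_nonneg (ha q) (hc p)))
      (fun p q hq => by simp [tr_of_isZero (hS.2.2.1 p q hq), P])
  let σ := Finset.HasAntidiagonal.sigmaAntidiagonalEquivProd (A := ℕ)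
  have hfib : ∀ n : ℕ, ∑' x : Finset.antidiagonal n,
      (-1 : ℂ) ^ ((x : ℕ × ℕ).1 + (x : ℕ × ℕ).2) * tr (P (((x : ℕ × ℕ).1 : ℤ), ((x : ℕ × ℕ).2 : ℤ))) =
        (-1 : ℂ) ^ n * tr (H n) := fun n => by
    rw [Finset.tsum_subtype (Finset.antidiagonal n)
      (fun x : ℕ × ℕ => (-1 : ℂ) ^ (x.1 + x.2) * tr (P ((x.1 : ℤ), (x.2 : ℤ)))), hH n, Finset.mul_sum]
    exact Finset.sum_congr rfl fun x hx => by rw [Finset.mem_antidiagonal.mp hx]
  have hσ := σ.summable_iff.mpr hsq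
  have hnorm := σ.summable_iff.mpr hsq.norm
  constructor
  · refine Summable.of_nonneg_of_le (fun n => norm_nonneg _) (fun n => ?_) hnorm.sigma
    rw [hH n]
    refine (norm_sum_le _ _).trans_eq (Eq.symm ?_)
    refine (Finset.tsum_subtype (Finset.antidiagonal n)
      (fun x : ℕ × ℕ => ‖(-1 : ℂ) ^ (x.1 + x.2) * tr (P ((x.1 : ℤ), (x.2 : ℤ)))‖)).trans ?_
    simp
  · rw [← tsum_quad h, ← hsumS, tsum_quad hS, ← σ.tsum_eq]
    exact (hσ.tsum_sigma.trans (tsum_congr hfib)).symm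

end Groth.Agent.H16Derived.SpFil.Trace
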