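import Groth.Agent.H16Derived.SpFil.ConvergeH
import Mathlib.Algebra.Homology.ExactSequence

/-!
# Pages in a weak Serre class and the cohomology of a filtered complex
-/

set_option autoImplicit false
set_option linter.style.haveILetI false

universe v u

open CategoryTheory CategoryTheory.Limits ComposableArrows

namespace Groth.Agent.H16Derived.SpFil.WeakSerre

open Groth.Agent.H16Derived.SpFil Groth.Agent.H16Derived.SpFil.ConvergeH

variable {A : Type u} [Category.{v} A] [Abelian A]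

section Subquot

variable {X : A} (Z B : Subobject X) (h : B ≤ Z)

/-- The class of an element of `Z` in `Z / B`. -/
noncomputable def cl {T : A} (z : T ⟶ X) (hz : Z.Factors z) : T ⟶ SpSeq.subquot Z B h :=
  Z.factorThru z hz ≫ cokernel.π (B.ofLE Z h)

lemma cl_comp {T T' : A} (π : T' ⟶ T) (z : T ⟶ X) (hz : Z.Factors z) :
    π ≫ cl Z B h z hz = cl Z B h (π ≫ z) (Subobject.factors_of_factors_right _ hz) := by
  rw [cl, cl, ← Category.assoc]
  congr 1
  apply (cancel_mono Z.arrow).1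
  simp

lemma cl_sub {T : A} (z z' : T ⟶ X) (hz : Z.Factors z) (hz' : Z.Factors z') :
    cl Z B h z hz - cl Z B h z' hz' = cl Z B h (z - z') (factors_sub hz hz') := by
  rw [cl, cl, cl, ← Preadditive.sub_comp]
  congr 1
  apply (cancel_mono Z.arrow).1
  simp

lemma cl_congr {T : A} {z z' : T ⟶ X} (e : z = z') (hz : Z.Factors z) (hz' : Z.Factors z') :
    cl Z B h z hz = cl Z B h z' hz' := by
  subst e
  rfl

lemma cl_eq_zero_iff {T : A} (z : T ⟶ X) (hz : Z.Factors z) :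
    cl Z B h z hz = 0 ↔ B.Factors z := by
  constructor
  · intro hc
    let S := ShortComplex.mk (B.ofLE Z h) (cokernel.π (B.ofLE Z h)) (cokernel.condition _)
    have hex : S.Exact := ShortComplex.exact_of_g_is_cokernel S (cokernelIsCokernel _)
    obtain ⟨T', π, hπ, x, hx⟩ := hex.exact_up_to_refinements (Z.factorThru z hz) hc
    refine factors_of_epi B π z ((Subobject.factors_iff _ _).2 ⟨x, ?_⟩)
    have := hx =≫ Z.arrow
    show x ≫ B.arrow = π ≫ z
    rw [Category.assoc, Category.assoc, Subobject.factorThru_arrow] at this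
    rw [this]
    exact (congrArg (x ≫ ·) (Subobject.ofLE_arrow h)).symm
  · intro hb
    have e : Z.factorThru z hz = B.factorThru z hb ≫ B.ofLE Z h := by
      apply (cancel_mono Z.arrow).1
      simp
    rw [cl, e, Category.assoc]
    exact (congrArg (B.factorThru z hb ≫ ·) (cokernel.condition (B.ofLE Z h))).trans comp_zero

lemma exists_cl {T : A} (c : T ⟶ SpSeq.subquot Z B h) :
    ∃ (T' : A) (π : T' ⟶ T) (_ : Epi π) (z : T' ⟶ X) (hz : Z.Factors z), π ≫ c = cl Z B h z hz := by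
  obtain ⟨T', π, hπ, x, hx⟩ := surjective_up_to_refinements_of_epi (cokernel.π (B.ofLE Z h)) c
  have hz : Z.Factors (x ≫ Z.arrow) := Subobject.factors_comp_arrow x
  refine ⟨T', π, hπ, x ≫ Z.arrow, hz, ?_⟩
  refine hx.trans ?_
  show x ≫ cokernel.π (B.ofLE Z h) = _
  rw [cl]
  congr 1
  apply (cancel_mono Z.arrow).1
  simp

end Subquot

lemma factors_inf {X T : A} {S R : Subobject X} {z : T ⟶ X} (h₁ : S.Factors z) (h₂ : R.Factors z) :
    (S ⊓ R).Factors z :=
  (Subobject.inf_factors _).2 ⟨h₁, h₂⟩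

lemma exists_of_factors_sup {X T : A} (S R : Subobject X) (z : T ⟶ X) (h : (S ⊔ R).Factors z) :
    ∃ (T' : A) (π : T' ⟶ T) (_ : Epi π) (a b : T' ⟶ X), S.Factors a ∧ R.Factors b ∧ π ≫ z = a + b := by
  have e : ∀ U : Subobject X, imageSubobject U.arrow = U := fun U => by
    rw [imageSubobject_mono, Subobject.mk_arrow]
  rw [← e S, ← e R] at h
  obtain ⟨T', π, hπ, a, b, hab⟩ := exists_factors_sup _ _ z h
  exact ⟨T', π, hπ, _, _, Subobject.factors_comp_arrow a, Subobject.factors_comp_arrow b, hab⟩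

variable (K : SpSeq.FilCx A)

lemma exists_of_mem_ZSub (r : ℕ) (p n : ℤ) {T : A} (z : T ⟶ K.obj.X n) (hz : (K.ZSub r p n).Factors z) :
    ∃ (T' : A) (π : T' ⟶ T) (_ : Epi π) (a b : T' ⟶ K.obj.X n), (K.filX p n).Factors a ∧
      (K.filX (p + r) (n + 1)).Factors (a ≫ K.obj.d n (n + 1)) ∧ (K.filX (p + 1) n).Factors b ∧ π ≫ z = a + b := by
  obtain ⟨T', π, hπ, a, b, ha, hb, hab⟩ := exists_of_factors_sup _ _ z hz
  obtain ⟨ha₁, ha₂⟩ := (Subobject.inf_factors _).1 ha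
  exact ⟨T', π, hπ, a, b, ha₁, (factors_pullback_iff _ _ _).1 ha₂, hb, hab⟩

lemma mem_ZSub (r : ℕ) (p n : ℤ) {T : A} (a b : T ⟶ K.obj.X n) (ha : (K.filX p n).Factors a)
    (ha' : (K.filX (p + r) (n + 1)).Factors (a ≫ K.obj.d n (n + 1))) (hb : (K.filX (p + 1) n).Factors b) :
    (K.ZSub r p n).Factors (a + b) :=
  factors_add (factors_inf ha ((factors_pullback_iff _ _ _).2 ha')) hb

lemma exists_of_mem_BSub (r : ℕ) (q m i : ℤ) (hi : i + 1 = m) {T : A} (z : T ⟶ K.obj.X m)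
    (hz : (K.BSub r q m).Factors z) :
    ∃ (T' : A) (π : T' ⟶ T) (_ : Epi π) (v : T' ⟶ K.obj.X i) (b : T' ⟶ K.obj.X m),
      (K.filX (q - r + 1) i).Factors v ∧ (K.filX q m).Factors (v ≫ K.obj.d i m) ∧ (K.filX (q + 1) m).Factors b ∧
      π ≫ z = v ≫ K.obj.d i m + b := by
  obtain rfl : i = m - 1 := by omega
  obtain ⟨T', π, hπ, a, b, ha, hb, hab⟩ := exists_of_factors_sup _ _ z hz
  obtain ⟨ha₁, ha₂⟩ := (Subobject.inf_factors _).1 ha
  obtain ⟨T'', π', hπ', w, hw⟩ := (factors_image_iff _ _).1 ha₂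
  refine ⟨T'', π' ≫ π, inferInstance, w ≫ (K.filX (q - r + 1) (m - 1)).arrow, π' ≫ b,
    Subobject.factors_comp_arrow w, ?_, Subobject.factors_of_factors_right _ hb, ?_⟩
  · rw [Category.assoc, ← hw]
    exact Subobject.factors_of_factors_right _ ha₁
  · rw [Category.assoc, hab, Preadditive.comp_add, Category.assoc, hw]

lemma mem_BSub (r : ℕ) (q m i : ℤ) (hi : i + 1 = m) {T : A} (v : T ⟶ K.obj.X i) (b : T ⟶ K.obj.X m)
    (hv : (K.filX (q - r + 1) i).Factors v) (hv' : (K.filX q m).Factors (v ≫ K.obj.d i m))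
    (hb : (K.filX (q + 1) m).Factors b) : (K.BSub r q m).Factors (v ≫ K.obj.d i m + b) := by
  obtain rfl : i = m - 1 := by omega
  exact factors_add (factors_inf hv' (factors_image _ _ v hv)) hb

lemma mem_BSub_of_step (r : ℕ) (q m : ℤ) {T : A} (b : T ⟶ K.obj.X m) (hb : (K.filX (q + 1) m).Factors b) :
    (K.BSub r q m).Factors b :=
  Subobject.factors_of_le b le_sup_right hb

lemma bsub_succ_le (r : ℕ) (p n : ℤ) : K.BSub r p n ≤ K.BSub (r + 1) p n := by
  refine le_of_refinements _ _ fun T z hz => ?_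
  obtain ⟨T', π, hπ, v, b, hv, hv', hb, hvb⟩ := exists_of_mem_BSub K r p n (n - 1) (by omega) z hz
  exact ⟨T', π, hπ, hvb ▸ mem_BSub K (r + 1) p n (n - 1) (by omega) v b (factors_anti K (by omega) hv) hv' hb⟩

lemma zsub_succ_le (r : ℕ) (p n : ℤ) : K.ZSub (r + 1) p n ≤ K.ZSub r p n := by
  refine le_of_refinements _ _ fun T z hz => ?_
  obtain ⟨T', π, hπ, a, b, ha, ha', hb, hab⟩ := exists_of_mem_ZSub K (r + 1) p n z hz
  exact ⟨T', π, hπ, hab ▸ mem_ZSub K r p n a b ha (factors_anti K (by omega) ha') hb⟩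

/-- The elements of `F^p K^n` sent by `d` into `F^{p+r}`. -/
noncomputable abbrev W (r : ℕ) (p n : ℤ) : Subobject (K.obj.X n) :=
  K.filX p n ⊓ (Subobject.pullback (K.obj.d n (n + 1))).obj (K.filX (p + r) (n + 1))

lemma mem_W (r : ℕ) (p n : ℤ) {T : A} (a : T ⟶ K.obj.X n) :
    (W K r p n).Factors a ↔ (K.filX p n).Factors a ∧ (K.filX (p + r) (n + 1)).Factors (a ≫ K.obj.d n (n + 1)) := by
  rw [Subobject.inf_factors, factors_pullback_iff]

lemma d_mem_ZSub (r s : ℕ) (p n : ℤ) {T : A} (a : T ⟶ K.obj.X n) (ha : (W K r p n).Factors a) :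
    (K.ZSub s (p + r) (n + 1)).Factors (a ≫ K.obj.d n (n + 1)) := by
  have := mem_ZSub K s (p + r) (n + 1) (a ≫ K.obj.d n (n + 1)) 0 ((mem_W K r p n a).1 ha).2
    (by simp [Subobject.factors_zero]) Subobject.factors_zero
  rwa [add_zero] at this

lemma W_le_ZSub (r : ℕ) (p n : ℤ) {T : A} {a : T ⟶ K.obj.X n} (ha : (W K r p n).Factors a) :
    (K.ZSub r p n).Factors a :=
  Subobject.factors_of_le a le_sup_left ha

/-- The page `r` as a subquotient. -/
noncomputable abbrev Eo (r : ℕ) (p n : ℤ) : A := SpSeq.subquot (K.ZSub r p n) (K.BSub r p n) (K.BSub_le_ZSub r p n)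

/-- The differential of page `r`, as the map induced by `d`. -/
theorem exists_pageD (r : ℕ) (p n : ℤ) :
    ∃ φ : Eo K r p n ⟶ Eo K r (p + r) (n + 1), ∀ {T : A} (a : T ⟶ K.obj.X n) (ha : (W K r p n).Factors a),
      cl _ _ (K.BSub_le_ZSub r p n) a (W_le_ZSub K r p n ha) ≫ φ =
        cl _ _ (K.BSub_le_ZSub r (p + r) (n + 1)) (a ≫ K.obj.d n (n + 1)) (d_mem_ZSub K r r p n a ha) := by
  let ι := (W K r p n).arrow
  have hι : (W K r p n).Factors ι := Subobject.factors_self _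
  let π₁ : _ ⟶ Eo K r p n := cl _ _ (K.BSub_le_ZSub r p n) ι (W_le_ZSub K r p n hι)
  let g : _ ⟶ Eo K r (p + r) (n + 1) :=
    cl _ _ (K.BSub_le_ZSub r (p + r) (n + 1)) (ι ≫ K.obj.d n (n + 1)) (d_mem_ZSub K r r p n ι hι)
  have hπ₁ : ∀ {T : A} (t : T ⟶ _), t ≫ π₁ = cl _ _ (K.BSub_le_ZSub r p n) (t ≫ ι)
      (Subobject.factors_of_factors_right t (W_le_ZSub K r p n hι)) := fun t => cl_comp _ _ _ t ι _
  have hg : ∀ {T : A} (t : T ⟶ _), t ≫ g = cl _ _ (K.BSub_le_ZSub r (p + r) (n + 1)) (t ≫ ι ≫ K.obj.d n (n + 1))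
      (Subobject.factors_of_factors_right t (d_mem_ZSub K r r p n ι hι)) := fun t => cl_comp _ _ _ t _ _
  haveI : Epi π₁ := by
    rw [epi_iff_surjective_up_to_refinements]
    intro T c
    obtain ⟨T₁, q₁, hq₁, z, hz, hzc⟩ := exists_cl _ _ (K.BSub_le_ZSub r p n) c
    obtain ⟨T₂, q₂, hq₂, a, b, ha, ha', hb, hab⟩ := exists_of_mem_ZSub K r p n z hz
    have haW : (W K r p n).Factors a := (mem_W K r p n a).2 ⟨ha, ha'⟩
    refine ⟨T₂, q₂ ≫ q₁, inferInstance, (W K r p n).factorThru a haW, ?_⟩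
    rw [Category.assoc, hzc, cl_comp, hπ₁, ← sub_eq_zero, cl_sub, cl_eq_zero_iff,
      show q₂ ≫ z - (W K r p n).factorThru a haW ≫ ι = b by
        rw [hab, Subobject.factorThru_arrow, add_sub_cancel_left]]
    exact mem_BSub_of_step K r p n b hb
  have hker : kernel.ι π₁ ≫ g = 0 := by
    have h₀ : kernel.ι π₁ ≫ π₁ = 0 := kernel.condition _
    have hW : (W K r p n).Factors (kernel.ι π₁ ≫ ι) := Subobject.factors_comp_arrow _
    rw [hπ₁, cl_eq_zero_iff] at h₀
    rw [hg, cl_eq_zero_iff]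
    obtain ⟨T₁, q₁, hq₁, v, b, hv, hv', hb, hvb⟩ := exists_of_mem_BSub K r p n (n - 1) (by omega) _ h₀
    refine factors_of_epi _ q₁ _ ?_
    have hd : q₁ ≫ (kernel.ι π₁ ≫ ι ≫ K.obj.d n (n + 1)) = b ≫ K.obj.d n (n + 1) + 0 := by
      rw [← Category.assoc (kernel.ι π₁), ← Category.assoc q₁, hvb, Preadditive.add_comp, Category.assoc,
        HomologicalComplex.d_comp_d, comp_zero, zero_add, add_zero]
    rw [hd]
    refine mem_BSub K r (p + r) (n + 1) n rfl b 0 (factors_anti K (by omega) hb) ?_ Subobject.factors_zero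
    rw [show b ≫ K.obj.d n (n + 1) = q₁ ≫ ((kernel.ι π₁ ≫ ι) ≫ K.obj.d n (n + 1)) by
      rw [add_zero] at hd; rw [← hd, Category.assoc]]
    exact Subobject.factors_of_factors_right _ ((mem_W K r p n _).1 hW).2
  refine ⟨Abelian.epiDesc π₁ g hker, fun {T} a ha => ?_⟩
  have hfac : (W K r p n).factorThru a ha ≫ ι = a := Subobject.factorThru_arrow _ _ _
  have e₁ : cl _ _ (K.BSub_le_ZSub r p n) a (W_le_ZSub K r p n ha) = (W K r p n).factorThru a ha ≫ π₁ :=
    (cl_congr _ _ _ hfac.symm _ _).trans (hπ₁ _).symm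
  rw [e₁, Category.assoc, Abelian.comp_epiDesc, hg]
  exact cl_congr _ _ _ (by rw [← Category.assoc, hfac]) _ _

variable (P : ObjectProperty A) [P.IsClosedUnderIsomorphisms]

/-- The closure properties of a weak Serre class used below. -/
structure Closed : Prop where
  zero : ∀ X : A, IsZero X → P X
  ker : ∀ {X Y Z : A} (i : X ⟶ Y) (f : Y ⟶ Z) (w : i ≫ f = 0), Mono i → (ShortComplex.mk i f w).Exact →
    P Y → P Z → P X
  coker : ∀ {X Y Z : A} (f : X ⟶ Y) (π : Y ⟶ Z) (w : f ≫ π = 0), Epi π → (ShortComplex.mk f π w).Exact →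
    P X → P Y → P Z
  ext : ∀ {X Y Z : A} (i : X ⟶ Y) (π : Y ⟶ Z) (w : i ≫ π = 0), Mono i → Epi π →
    (ShortComplex.mk i π w).Exact → P X → P Z → P Y

theorem closed_of_five (h0 : ∃ Z : A, IsZero Z ∧ P Z)
    (hP : ∀ S : ComposableArrows A 4, S.Exact → P (S.obj 0) → P (S.obj 1) → P (S.obj 3) → P (S.obj 4) → P (S.obj 2)) :
    Closed P := by
  obtain ⟨O, hO, hPO⟩ := h0
  have h5 : ∀ {X₀ X₁ X₂ X₃ X₄ : A} (f : X₀ ⟶ X₁) (g : X₁ ⟶ X₂) (h : X₂ ⟶ X₃) (k : X₃ ⟶ X₄)
      (w₁ : f ≫ g = 0) (w₂ : g ≫ h = 0) (w₃ : h ≫ k = 0), (ShortComplex.mk f g w₁).Exact →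
      (ShortComplex.mk g h w₂).Exact → (ShortComplex.mk h k w₃).Exact → P X₀ → P X₁ → P X₃ → P X₄ → P X₂ :=
    fun f g h k w₁ w₂ w₃ e₁ e₂ e₃ => hP (mk₄ f g h k)
      (exact_of_δ₀ (exact₂_mk _ w₁ e₁) (exact_of_δ₀ (exact₂_mk _ w₂ e₂) (exact₂_mk _ w₃ e₃)))
  have hz : ∀ X : A, IsZero X → P X := fun X hX => P.prop_of_iso (hO.iso hX) hPO
  refine ⟨hz, @fun X Y Z i f w hi he hY hZ => ?_, @fun X Y Z f π w hπ he hX hY => ?_,
    @fun X Y Z i π w hi hπ he hX hZ => ?_⟩
  · haveI := hi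
    exact h5 (0 : O ⟶ O) (0 : O ⟶ X) i f zero_comp zero_comp w
      (ShortComplex.exact_of_isZero_X₂ _ hO)
      ((ShortComplex.exact_iff_mono _ rfl).2 ‹_›) he hPO hPO hY hZ
  · haveI := hπ
    exact h5 f π (0 : Z ⟶ O) (0 : O ⟶ O) w comp_zero comp_zero he
      ((ShortComplex.exact_iff_epi _ rfl).2 ‹_›) (ShortComplex.exact_of_isZero_X₂ _ hO) hX hY hPO hPO
  · haveI := hi
    haveI := hπ
    exact h5 (0 : O ⟶ X) i π (0 : Z ⟶ O) zero_comp w comp_zero
      ((ShortComplex.exact_iff_mono _ rfl).2 ‹_›) he ((ShortComplex.exact_iff_epi _ rfl).2 ‹_›) hPO hX hZ hPO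

variable {P}

/-- A subquotient of a subquotient. -/
theorem exists_sesSubquot {X : A} (Z M B : Subobject X) (h₁ : B ≤ M) (h₂ : M ≤ Z) :
    ∃ (i : SpSeq.subquot M B h₁ ⟶ SpSeq.subquot Z B (h₁.trans h₂))
      (π : SpSeq.subquot Z B (h₁.trans h₂) ⟶ SpSeq.subquot Z M h₂) (w : i ≫ π = 0),
      Mono i ∧ Epi π ∧ (ShortComplex.mk i π w).Exact ∧
      (∀ {T : A} (z : T ⟶ X) (hz : M.Factors z), cl M B h₁ z hz ≫ i = cl Z B _ z (Subobject.factors_of_le z h₂ hz)) ∧
      (∀ {T : A} (z : T ⟶ X) (hz : Z.Factors z), cl Z B (h₁.trans h₂) z hz ≫ π = cl Z M h₂ z hz) := by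
  let i : SpSeq.subquot M B h₁ ⟶ SpSeq.subquot Z B (h₁.trans h₂) :=
    cokernel.map _ _ (𝟙 _) (M.ofLE Z h₂) (by simp)
  let π : SpSeq.subquot Z B (h₁.trans h₂) ⟶ SpSeq.subquot Z M h₂ :=
    cokernel.map _ _ (B.ofLE M h₁) (𝟙 _) (by simp)
  have hi : ∀ {T : A} (z : T ⟶ X) (hz : M.Factors z),
      cl M B h₁ z hz ≫ i = cl Z B (h₁.trans h₂) z (Subobject.factors_of_le z h₂ hz) := fun z hz =>
    (Category.assoc _ _ _).trans ((congrArg (M.factorThru z hz ≫ ·) (cokernel.π_desc _ _ _)).trans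
      ((Category.assoc _ _ _).symm.trans (congrArg (· ≫ cokernel.π (B.ofLE Z (h₁.trans h₂)))
        ((cancel_mono Z.arrow).1 (by simp)))))
  have hπ : ∀ {T : A} (z : T ⟶ X) (hz : Z.Factors z), cl Z B (h₁.trans h₂) z hz ≫ π = cl Z M h₂ z hz := fun z hz =>
    (Category.assoc _ _ _).trans (congrArg (Z.factorThru z hz ≫ ·)
      ((cokernel.π_desc _ _ _).trans (Category.id_comp _)))
  have w : i ≫ π = 0 := by
    rw [← Category.id_comp (i ≫ π)]
    obtain ⟨T₁, q₁, hq₁, z, hz, hzc⟩ := exists_cl M B h₁ (𝟙 _)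
    rw [← cancel_epi q₁, comp_zero, ← Category.assoc, hzc, ← Category.assoc, hi, hπ, cl_eq_zero_iff]
    exact hz
  refine ⟨i, π, w, ?_, ?_, ?_, hi, hπ⟩
  · refine Preadditive.mono_of_cancel_zero _ fun {T} c hc => ?_
    obtain ⟨T₁, q₁, hq₁, z, hz, hzc⟩ := exists_cl M B h₁ c
    rw [← cancel_epi q₁, comp_zero, hzc]
    rw [cl_eq_zero_iff]
    have := q₁ ≫= hc
    rw [← Category.assoc, hzc, hi, comp_zero, cl_eq_zero_iff] at this
    exact this
  · rw [epi_iff_surjective_up_to_refinements]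
    intro T c
    obtain ⟨T₁, q₁, hq₁, z, hz, hzc⟩ := exists_cl Z M h₂ c
    exact ⟨T₁, q₁, hq₁, cl Z B (h₁.trans h₂) z hz, hzc.trans (hπ z hz).symm⟩
  · rw [ShortComplex.exact_iff_exact_up_to_refinements]
    intro T c hc
    obtain ⟨T₁, q₁, hq₁, z, hz, hzc⟩ := exists_cl Z B (h₁.trans h₂) c
    have := q₁ ≫= hc
    rw [← Category.assoc, hzc, hπ, comp_zero, cl_eq_zero_iff] at this
    exact ⟨T₁, q₁, hq₁, cl M B h₁ z this, hzc.trans (hi z this).symm⟩

/-- The pages stay in the class. -/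
theorem mem_page_succ (hC : Closed P) (r : ℕ) (hr : ∀ p n : ℤ, P (Eo K r p n)) (p n : ℤ) :
    P (Eo K (r + 1) p n) := by
  -- kernels of the differentials
  have hkerP : ∀ p n : ℤ, P (SpSeq.subquot (K.ZSub (r + 1) p n) (K.BSub r p n)
      ((bsub_succ_le K r p n).trans (K.BSub_le_ZSub (r + 1) p n))) := by
    intro p n
    obtain ⟨φ, hφ⟩ := exists_pageD K r p n
    obtain ⟨i, π, w, hi, hπ, hex, hicl, hπcl⟩ := exists_sesSubquot (K.ZSub r p n) (K.ZSub (r + 1) p n)
      (K.BSub r p n) ((bsub_succ_le K r p n).trans (K.BSub_le_ZSub (r + 1) p n)) (zsub_succ_le K r p n)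
    have hw : i ≫ φ = 0 := by
      haveI := hi
      obtain ⟨T₁, q₁, hq₁, z, hz, hzc⟩ := exists_cl (K.ZSub (r + 1) p n) _ _ (𝟙 _)
      obtain ⟨T₂, q₂, hq₂, a, b, ha, ha', hb, hab⟩ := exists_of_mem_ZSub K (r + 1) p n z hz
      have haW : (W K r p n).Factors a := (mem_W K r p n a).2 ⟨ha, factors_anti K (by omega) ha'⟩
      rw [← cancel_epi q₁, ← cancel_epi q₂, comp_zero, comp_zero]
      have h₁ : q₂ ≫ q₁ ≫ i = cl _ _ (K.BSub_le_ZSub r p n) a (W_le_ZSub K r p n haW) := by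
        rw [show q₁ ≫ i = cl _ _ _ z hz ≫ i by rw [← hzc, Category.comp_id], hicl, cl_comp, ← sub_eq_zero,
          cl_sub, cl_eq_zero_iff, hab, add_sub_cancel_left]
        exact mem_BSub_of_step K r p n b hb
      rw [reassoc_of% h₁, hφ a haW, cl_eq_zero_iff]
      exact mem_BSub_of_step K r _ _ _ (factors_anti K (by omega) ha')
    refine hC.ker i φ hw hi ?_ (hr p n) (hr _ _)
    rw [ShortComplex.exact_iff_exact_up_to_refinements]
    intro T c hc
    obtain ⟨T₁, q₁, hq₁, z, hz, hzc⟩ := exists_cl _ _ (K.BSub_le_ZSub r p n) c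
    obtain ⟨T₂, q₂, hq₂, a, b, ha, ha', hb, hab⟩ := exists_of_mem_ZSub K r p n z hz
    have haW : (W K r p n).Factors a := (mem_W K r p n a).2 ⟨ha, ha'⟩
    have h₁ : q₂ ≫ q₁ ≫ c = cl _ _ (K.BSub_le_ZSub r p n) a (W_le_ZSub K r p n haW) := by
      rw [hzc, cl_comp, ← sub_eq_zero, cl_sub, cl_eq_zero_iff, hab, add_sub_cancel_left]
      exact mem_BSub_of_step K r p n b hb
    have h₂ := q₂ ≫= q₁ ≫= hc
    rw [comp_zero, comp_zero, reassoc_of% h₁, hφ a haW, cl_eq_zero_iff] at h₂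
    obtain ⟨T₃, q₃, hq₃, v, u, hv, -, hu, hvu⟩ := exists_of_mem_BSub K r (p + r) (n + 1) n rfl _ h₂
    have hav : (K.ZSub (r + 1) p n).Factors (q₃ ≫ a) := by
      have := mem_ZSub K (r + 1) p n (q₃ ≫ a - v) v
        (factors_sub (Subobject.factors_of_factors_right _ ha) (factors_anti K (by omega) hv))
        (by
          rw [Preadditive.sub_comp, Category.assoc, hvu, add_sub_cancel_left]
          exact factors_anti K (by omega) hu)
        (factors_anti K (by omega) hv)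
      rwa [sub_add_cancel] at this
    refine ⟨T₃, q₃ ≫ q₂ ≫ q₁, inferInstance, cl _ _ _ (q₃ ≫ a) hav, ?_⟩
    rw [Category.assoc, Category.assoc, h₁, cl_comp, hicl]
  -- images of the differentials
  have himP : ∀ p n : ℤ, P (SpSeq.subquot (K.BSub (r + 1) (p + r) (n + 1)) (K.BSub r (p + r) (n + 1))
      (bsub_succ_le K r _ _)) := by
    intro p n
    obtain ⟨φ, hφ⟩ := exists_pageD K r p n
    have hle : K.BSub (r + 1) (p + r) (n + 1) ≤ K.ZSub r (p + r) (n + 1) :=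
      (K.BSub_le_ZSub (r + 1) _ _).trans (zsub_succ_le K r _ _)
    obtain ⟨i, π, w, hi, hπ, hex, hicl, hπcl⟩ := exists_sesSubquot (K.ZSub r (p + r) (n + 1))
      (K.BSub (r + 1) (p + r) (n + 1)) (K.BSub r (p + r) (n + 1)) (bsub_succ_le K r _ _) hle
    refine hC.ker i π w hi hex (hr _ _) ?_
    have hw : φ ≫ π = 0 := by
      obtain ⟨T₁, q₁, hq₁, z, hz, hzc⟩ := exists_cl _ _ (K.BSub_le_ZSub r p n) (𝟙 (Eo K r p n))
      obtain ⟨T₂, q₂, hq₂, a, b, ha, ha', hb, hab⟩ := exists_of_mem_ZSub K r p n z hz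
      have haW : (W K r p n).Factors a := (mem_W K r p n a).2 ⟨ha, ha'⟩
      have h₁ : q₂ ≫ q₁ = cl _ _ (K.BSub_le_ZSub r p n) a (W_le_ZSub K r p n haW) := by
        rw [← Category.comp_id q₁, hzc, cl_comp, ← sub_eq_zero, cl_sub, cl_eq_zero_iff, hab, add_sub_cancel_left]
        exact mem_BSub_of_step K r p n b hb
      rw [← cancel_epi (q₂ ≫ q₁), comp_zero, h₁, ← Category.assoc, hφ a haW, hπcl, cl_eq_zero_iff,
        ← add_zero (a ≫ K.obj.d n (n + 1))]
      exact mem_BSub K (r + 1) (p + r) (n + 1) n rfl a 0 (factors_anti K (by omega) ha) ha' Subobject.factors_zero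
    refine hC.coker φ π hw hπ ?_ (hr p n) (hr _ _)
    rw [ShortComplex.exact_iff_exact_up_to_refinements]
    intro T c hc
    obtain ⟨T₁, q₁, hq₁, z, hz, hzc⟩ := exists_cl _ _ (K.BSub_le_ZSub r (p + r) (n + 1)) c
    have h₂ := q₁ ≫= hc
    rw [← Category.assoc, hzc, comp_zero, hπcl, cl_eq_zero_iff] at h₂
    obtain ⟨T₂, q₂, hq₂, v, u, hv, hv', hu, hvu⟩ := exists_of_mem_BSub K (r + 1) (p + r) (n + 1) n rfl _ h₂
    have hvW : (W K r p n).Factors v := (mem_W K r p n v).2 ⟨factors_anti K (by omega) hv, hv'⟩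
    refine ⟨T₂, q₂ ≫ q₁, inferInstance, cl _ _ (K.BSub_le_ZSub r p n) v (W_le_ZSub K r p n hvW), ?_⟩
    rw [hφ v hvW, Category.assoc, hzc, cl_comp, ← sub_eq_zero, cl_sub, cl_eq_zero_iff, hvu, add_sub_cancel_left]
    exact mem_BSub_of_step K r _ _ u hu
  obtain ⟨i, π, w, hi, hπ, hex, -, -⟩ := exists_sesSubquot (K.ZSub (r + 1) p n) (K.BSub (r + 1) p n)
    (K.BSub r p n) (bsub_succ_le K r p n) (K.BSub_le_ZSub (r + 1) p n)
  refine hC.coker i π w hπ hex ?_ (hkerP p n)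
  have key : ∀ q m : ℤ, q = p → m = n → P (SpSeq.subquot (K.BSub (r + 1) q m) (K.BSub r q m) (bsub_succ_le K r q m)) →
      P (SpSeq.subquot (K.BSub (r + 1) p n) (K.BSub r p n) (bsub_succ_le K r p n)) := by
    rintro q m rfl rfl h
    exact h
  exact key _ _ (by omega) (by omega) (himP (p - r) (n - 1))

theorem mem_page_of_le (hC : Closed P) (r : ℕ) (hr : ∀ p n : ℤ, P (Eo K r p n)) :
    ∀ s, r ≤ s → ∀ p n : ℤ, P (Eo K s p n) := by
  intro s hs
  induction s, hs using Nat.le_induction with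
  | base => exact hr
  | succ s _ ih => exact mem_page_succ K hC s ih

/-- The limit page is the graded cohomology. -/
theorem nonempty_gr_iso (p n : ℤ) (h : K.BBot p n ≤ K.ZTop p n) :
    Nonempty (SpSeq.subquot (K.ZTop p n) (K.BBot p n) h ≅
      SpSeq.subquot (K.filH p n) (K.filH (p + 1) n) (K.filH_anti n (Int.le_add_one le_rfl))) := by
  let W₀ : Subobject (K.obj.X n) := K.filX p n ⊓ kernelSubobject (K.obj.d n (n + 1))
  let Wo : A := (W₀ : Subobject (K.obj.X n))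
  let ι : Wo ⟶ K.obj.X n := W₀.arrow
  have hι : W₀.Factors ι := Subobject.factors_self _
  have hιd : ι ≫ K.obj.d n (n + 1) = 0 := (kernelSubobject_factors_iff _ _).1 ((Subobject.inf_factors _).1 hι).2
  have hlift : ∀ {T : A} (z : T ⟶ K.obj.X n) (hz : z ≫ K.obj.d n (n + 1) = 0), (K.filX p n).Factors z →
      (K.filH p n).Factors (K.obj.liftCycles z (n + 1) ((ComplexShape.up ℤ).next_eq' rfl) hz ≫ K.obj.homologyπ n) := by
    intro T z hz hzp
    obtain ⟨w, rfl⟩ := (mem_filX K z).1 hzp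
    refine (factors_image_iff _ _).2 ⟨T, 𝟙 T, inferInstance,
      (K.fil p : CochainComplex A ℤ).liftCycles w (n + 1) ((ComplexShape.up ℤ).next_eq' rfl) (cycle_lift K w hz) ≫
        (K.fil p : CochainComplex A ℤ).homologyπ n, ?_⟩
    rw [Category.id_comp, Category.assoc, HomologicalComplex.homologyπ_naturality,
      HomologicalComplex.liftCycles_comp_cyclesMap_assoc]
  let hc : Wo ⟶ K.obj.homology n :=
    K.obj.liftCycles ι (n + 1) ((ComplexShape.up ℤ).next_eq' rfl) hιd ≫ K.obj.homologyπ n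
  have hhc : (K.filH p n).Factors hc := hlift ι hιd ((Subobject.inf_factors _).1 hι).1
  let π₁ : Wo ⟶ SpSeq.subquot (K.ZTop p n) (K.BBot p n) h :=
    cl _ _ h ι (Subobject.factors_of_le _ le_sup_left hι)
  let π₂ : Wo ⟶ SpSeq.subquot (K.filH p n) (K.filH (p + 1) n) (K.filH_anti n (Int.le_add_one le_rfl)) :=
    cl (K.filH p n) (K.filH (p + 1) n) (K.filH_anti n (Int.le_add_one le_rfl)) hc hhc
  have hπ₁ : ∀ {T : A} (t : T ⟶ Wo), t ≫ π₁ = cl _ _ h (t ≫ ι)
      (Subobject.factors_of_factors_right t (Subobject.factors_of_le _ le_sup_left hι)) := fun t => cl_comp _ _ _ t ι _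
  have hπ₂ : ∀ {T : A} (t : T ⟶ Wo), t ≫ π₂ = cl _ _ (K.filH_anti n (Int.le_add_one le_rfl)) (t ≫ hc)
      (Subobject.factors_of_factors_right t hhc) := fun t => cl_comp _ _ _ t hc _
  haveI : Epi π₁ := by
    rw [epi_iff_surjective_up_to_refinements]
    intro T c
    obtain ⟨T₁, q₁, hq₁, z, hz, hzc⟩ := exists_cl _ _ h c
    obtain ⟨T₂, q₂, hq₂, a, b, ha, hb, hab⟩ := exists_of_factors_sup _ _ z hz
    refine ⟨T₂, q₂ ≫ q₁, inferInstance, W₀.factorThru a ha, ?_⟩
    rw [Category.assoc, hzc, cl_comp, hπ₁, ← sub_eq_zero, cl_sub, cl_eq_zero_iff,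
      show q₂ ≫ z - W₀.factorThru a ha ≫ ι = b by rw [hab, Subobject.factorThru_arrow, add_sub_cancel_left]]
    exact Subobject.factors_of_le b le_sup_right hb
  haveI : Epi π₂ := by
    rw [epi_iff_surjective_up_to_refinements]
    intro T c
    obtain ⟨T₁, q₁, hq₁, z, hz, hzc⟩ := exists_cl _ _ _ c
    obtain ⟨T₂, q₂, hq₂, γ, hγ⟩ := (factors_image_iff _ _).1 hz
    obtain ⟨T₃, q₃, hq₃, x, hx, hxγ⟩ :=
      (K.fil p : CochainComplex A ℤ).eq_liftCycles_homologyπ_up_to_refinements γ (n + 1) ((ComplexShape.up ℤ).next_eq' rfl)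
    have hxW : W₀.Factors (x ≫ (K.fil p).arrow.f n) := factors_inf ((mem_filX K _).2 ⟨x, rfl⟩)
      ((kernelSubobject_factors_iff _ _).2 (by rw [Category.assoc, (K.fil p).arrow.comm, reassoc_of% hx, zero_comp]))
    refine ⟨T₃, q₃ ≫ q₂ ≫ q₁, inferInstance, W₀.factorThru _ hxW, ?_⟩
    rw [Category.assoc, Category.assoc, hzc, cl_comp, cl_comp, hπ₂]
    refine cl_congr _ _ _ ?_ _ _
    rw [hγ, reassoc_of% hxγ, HomologicalComplex.homologyπ_naturality,
      HomologicalComplex.liftCycles_comp_cyclesMap_assoc]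
    show _ = _ ≫ K.obj.liftCycles _ _ _ _ ≫ _
    rw [HomologicalComplex.comp_liftCycles_assoc]
    simp only [ι, Subobject.factorThru_arrow]
  have h₁ : ∀ {T : A} (t : T ⟶ Wo), t ≫ π₁ = 0 ↔ (K.BBot p n).Factors (t ≫ ι) := fun t => by
    rw [hπ₁, cl_eq_zero_iff]
  have h₂ : ∀ {T : A} (t : T ⟶ Wo), t ≫ π₂ = 0 ↔ (K.filH (p + 1) n).Factors (t ≫ hc) := fun t => by
    rw [hπ₂, cl_eq_zero_iff]
  have hzd : ∀ {T : A} (t : T ⟶ Wo), (t ≫ ι) ≫ K.obj.d n (n + 1) = 0 := fun t => by rw [Category.assoc, hιd, comp_zero]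
  have key : ∀ {T : A} (t : T ⟶ Wo), (K.BBot p n).Factors (t ≫ ι) ↔ (K.filH (p + 1) n).Factors (t ≫ hc) := by
    intro T t
    have hthc : t ≫ hc = K.obj.liftCycles (t ≫ ι) (n + 1) ((ComplexShape.up ℤ).next_eq' rfl) (hzd t) ≫
        K.obj.homologyπ n := by
      simp only [hc, HomologicalComplex.comp_liftCycles_assoc]
    rw [hthc]
    constructor
    · intro hB
      obtain ⟨T₁, q₁, hq₁, a, b, ha, hb, hab⟩ := exists_of_factors_sup _ _ _ hB
      obtain ⟨T₂, q₂, hq₂, y, hy⟩ := (factors_image_iff _ _).1 ((Subobject.inf_factors _).1 ha).2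
      have hbd : (q₂ ≫ b) ≫ K.obj.d n (n + 1) = 0 := by
        rw [show q₂ ≫ b = (q₂ ≫ q₁) ≫ t ≫ ι - y ≫ K.obj.d (n - 1) n by
          rw [Category.assoc, hab, Preadditive.comp_add, hy, add_sub_cancel_left],
          Preadditive.sub_comp, Category.assoc, hzd, comp_zero, Category.assoc, HomologicalComplex.d_comp_d,
          comp_zero, sub_zero]
      refine factors_of_epi _ (q₂ ≫ q₁) _ ?_
      obtain ⟨w, hw⟩ := (mem_filX K _).1 (Subobject.factors_of_factors_right q₂ hb)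
      refine (factors_image_iff _ _).2 ⟨T₂, 𝟙 _, inferInstance,
        (K.fil (p + 1) : CochainComplex A ℤ).liftCycles w (n + 1) ((ComplexShape.up ℤ).next_eq' rfl)
          (cycle_lift K w (by rw [hw]; exact hbd)) ≫ (K.fil (p + 1) : CochainComplex A ℤ).homologyπ n, ?_⟩
      simp only [Category.id_comp, Category.assoc, HomologicalComplex.homologyπ_naturality,
        HomologicalComplex.liftCycles_comp_cyclesMap_assoc, HomologicalComplex.comp_liftCycles_assoc]
      rw [K.obj.comp_homologyπ_eq_iff_up_to_refinements (n - 1) n ((ComplexShape.up ℤ).prev_eq' (show n - 1 + 1 = n by omega))]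
      refine ⟨T₂, 𝟙 _, inferInstance, y, ?_⟩
      rw [← cancel_mono (K.obj.iCycles n)]
      simp only [Preadditive.add_comp, HomologicalComplex.liftCycles_i, Category.assoc, Category.id_comp,
        HomologicalComplex.toCycles_i]
      rw [hw, hab, Preadditive.comp_add, hy, add_comm]
    · intro hH
      obtain ⟨T₁, q₁, hq₁, γ, hγ⟩ := (factors_image_iff _ _).1 hH
      obtain ⟨T₂, q₂, hq₂, x, hx, hxγ⟩ := (K.fil (p + 1) : CochainComplex A ℤ).eq_liftCycles_homologyπ_up_to_refinements γ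
        (n + 1) ((ComplexShape.up ℤ).next_eq' rfl)
      have e := q₂ ≫= hγ
      rw [reassoc_of% hxγ, HomologicalComplex.homologyπ_naturality,
        HomologicalComplex.liftCycles_comp_cyclesMap_assoc, HomologicalComplex.comp_liftCycles_assoc,
        HomologicalComplex.comp_liftCycles_assoc,
        K.obj.comp_homologyπ_eq_iff_up_to_refinements (n - 1) n ((ComplexShape.up ℤ).prev_eq' (show n - 1 + 1 = n by omega))] at e
      obtain ⟨T₃, q₃, hq₃, y, hy⟩ := e
      have hy' := hy =≫ K.obj.iCycles n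
      simp only [Preadditive.add_comp, Category.assoc, HomologicalComplex.liftCycles_i,
        HomologicalComplex.toCycles_i] at hy'
      refine factors_of_epi _ (q₃ ≫ q₂ ≫ q₁) _ ?_
      have hxb : (K.filX (p + 1) n).Factors (q₃ ≫ x ≫ (K.fil (p + 1)).arrow.f n) :=
        Subobject.factors_of_factors_right _ ((mem_filX K _).2 ⟨x, rfl⟩)
      have eyd : y ≫ K.obj.d (n - 1) n = q₃ ≫ q₂ ≫ q₁ ≫ t ≫ ι - q₃ ≫ x ≫ (K.fil (p + 1)).arrow.f n := by
        rw [hy', add_sub_cancel_left]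
      rw [show (q₃ ≫ q₂ ≫ q₁) ≫ t ≫ ι = y ≫ K.obj.d (n - 1) n + q₃ ≫ x ≫ (K.fil (p + 1)).arrow.f n by
        rw [eyd, sub_add_cancel]; simp only [Category.assoc]]
      refine factors_add (factors_inf ?_ ((factors_image_iff _ _).2 ⟨T₃, 𝟙 _, inferInstance, y, Category.id_comp _⟩)) hxb
      rw [eyd]
      exact factors_sub (Subobject.factors_of_factors_right _ (Subobject.factors_of_factors_right _
        (Subobject.factors_of_factors_right _ (Subobject.factors_of_factors_right _ ((Subobject.inf_factors _).1 hι).1))))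
        (factors_anti K (by omega) hxb)
  exact ⟨{ hom := Abelian.epiDesc π₁ π₂ ((h₂ _).2 ((key _).1 ((h₁ _).1 (kernel.condition π₁))))
           inv := Abelian.epiDesc π₂ π₁ ((h₁ _).2 ((key _).2 ((h₂ _).1 (kernel.condition π₂))))
           hom_inv_id := by rw [← cancel_epi π₁]; simp
           inv_hom_id := by rw [← cancel_epi π₂]; simp }⟩

omit [P.IsClosedUnderIsomorphisms] in
theorem mem_ext (hC : Closed P) {X : A} (S R : Subobject X) (h : S ≤ R) (hS : P (S : A))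
    (hQ : P (SpSeq.subquot R S h)) : P (R : A) :=
  hC.ext (S.ofLE R h) (cokernel.π (S.ofLE R h)) (cokernel.condition _) inferInstance inferInstance
    (ShortComplex.exact_of_g_is_cokernel _ (cokernelIsCokernel _)) hS hQ

theorem mem_of_finite_fil (hC : Closed P) {X : A} (F : ℤ → Subobject X) (hF : Antitone F)
    (hgr : ∀ p, P (SpSeq.subquot (F p) (F (p + 1)) (hF (Int.le_add_one le_rfl))))
    (htop : ∃ a, F a = ⊤) (hbot : ∃ b, F b = ⊥) : P X := by
  obtain ⟨a, ha⟩ := htop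
  obtain ⟨b, hb⟩ := hbot
  have hstep : ∀ j : ℕ, P (F (b - j) : A) := by
    intro j
    induction j with
    | zero =>
      refine hC.zero _ ?_
      rw [IsZero.iff_id_eq_zero, ← cancel_mono (F (b - ((0 : ℕ) : ℤ))).arrow, Category.id_comp, zero_comp]
      exact arrow_eq_zero_of_eq_bot (by rw [show b - ((0 : ℕ) : ℤ) = b by omega]; exact hb)
    | succ j ih =>
      have key : ∀ q, q = b - (j : ℤ) → P (F q : A) := fun q hq => hq ▸ ih
      exact mem_ext hC (F (b - ↑(j + 1) + 1)) (F (b - ↑(j + 1))) (hF (Int.le_add_one le_rfl))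
        (key _ (by push_cast; omega)) (hgr _)
  have := hstep (b - min a b).toNat
  have e : F (b - ((b - min a b).toNat : ℤ)) = ⊤ := by
    rw [show b - ((b - min a b).toNat : ℤ) = min a b by omega]
    exact top_le_iff.1 (ha.symm.trans_le (hF (min_le_left a b)))
  haveI hiso := (Subobject.isIso_arrow_iff_eq_top _).2 e
  exact P.prop_of_iso (asIso (F (b - ((b - min a b).toNat : ℤ))).arrow) this

theorem homology_mem (hK : ∀ n : ℤ, (K.XFil n).IsFinite) (hC : Closed P) (r : ℕ)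
    (hr : ∀ p n : ℤ, P (Eo K r p n)) (n : ℤ) : P (K.obj.homology n) := by
  have hgr : ∀ p, P (SpSeq.subquot (K.filH p n) (K.filH (p + 1) n) (K.filH_anti n (Int.le_add_one le_rfl))) := by
    intro p
    obtain ⟨a, ha⟩ := zsub_stable K hK p n
    obtain ⟨b, hb⟩ := bsub_stable K hK p n
    let s := r + a + b
    have hs := mem_page_of_le K hC r hr s (by omega) p n
    have key : ∀ (Z B : Subobject (K.obj.X n)) (h : B ≤ Z), Z = K.ZTop p n → B = K.BBot p n →
        P (SpSeq.subquot Z B h) →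
        P (SpSeq.subquot (K.filH p n) (K.filH (p + 1) n) (K.filH_anti n (Int.le_add_one le_rfl))) := by
      rintro _ _ h rfl rfl hP'
      obtain ⟨e⟩ := nonempty_gr_iso K p n h
      exact P.prop_of_iso e hP'
    exact key _ _ (K.BSub_le_ZSub s p n) (ha s (by omega)) (hb s (by omega)) hs
  exact mem_of_finite_fil hC (fun q => K.filH q n) (K.filH_anti n) hgr (hfil_finite K hK n).1 (hfil_finite K hK n).2

end Groth.Agent.H16Derived.SpFil.WeakSerre
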